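import Groth.Agent.EllLift.K262.LevelK

/-!
# From a lifting of `J` to a lifting of `E` with its action
-/

set_option autoImplicit false
set_option linter.unusedSectionVars false

universe u v

open CategoryTheory CategoryTheory.Limits MonoidalCategory CartesianMonoidalCategory MonObj GrpObj
  AlgebraicGeometry

namespace K262.AB

open K262.EllPtd K262.EllSplit K262.EllGeom K262.GalD K262.Lvl

variable {Λ : Type u} [CommRing Λ] [IsArtinianRing Λ] [IsLocalRing Λ] [IsAlgClosed (IsLocalRing.ResidueField Λ)]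
  {S S₀ T T₀ : Scheme.{u}} (p : T ⟶ S) (p₀ : T₀ ⟶ S₀) (i : S₀ ⟶ S) (i' : T₀ ⟶ T)
  (f : S ⟶ Spec (CommRingCat.of Λ)) (f₀ : S₀ ⟶ Spec (CommRingCat.of (IsLocalRing.ResidueField Λ)))
  (hsq : IsPullback i f₀ f (res Λ)) (hsq' : IsPullback i' p₀ p i)

section

variable (J : Over S₀) [GrpObj J] (JJ : Over S) [GrpObj JJ] (u : J.left ⟶ JJ.left) (hu : CP i J JJ u)

/-- The comparison of the base changes. -/
noncomputable def wmap : (Red.bc p₀ J).left ⟶ (Red.bc p JJ).left :=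
  (cp_bc p JJ).lift i' (((cp_bc p₀ J).comp hu).toPT.congr hsq'.w.symm)

theorem cp_wmap : CP i' (Red.bc p₀ J) (Red.bc p JJ) (wmap p p₀ i i' hsq' J JJ u hu) :=
  (cp_bc p JJ).cp_lift i' (((cp_bc p₀ J).comp hu).congr hsq'.w.symm)

theorem wmap_fst : wmap p p₀ i i' hsq' J JJ u hu ≫ pullback.fst JJ.hom p = pullback.fst J.hom p₀ ≫ u :=
  CP.lift_comp _ _ _

theorem wmap_snd : wmap p p₀ i i' hsq' J JJ u hu ≫ pullback.snd JJ.hom p = pullback.snd J.hom p₀ ≫ i' :=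
  CP.lift_hom _ _ _

/-- Equivariance of the comparison. -/
theorem act_wmap {G : Type v} (σ : G → (T ⟶ T)) (hσ : ∀ g, σ g ≫ p = p) (σ₀ : G → (T₀ ⟶ T₀))
    (hσ₀ : ∀ g, σ₀ g ≫ p₀ = p₀) (hθ : ∀ g, i' ≫ σ g = σ₀ g ≫ i') (g : G) :
    act p₀ σ₀ hσ₀ J g ≫ wmap p p₀ i i' hsq' J JJ u hu = wmap p p₀ i i' hsq' J JJ u hu ≫ act p σ hσ JJ g := by
  refine pullback.hom_ext ?_ ?_
  · rw [Category.assoc, Category.assoc, act_fst, wmap_fst, act_fst_assoc]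
  · rw [Category.assoc, Category.assoc, act_snd, wmap_snd, act_snd_assoc, ← Category.assoc (wmap _ _ _ _ _ _ _ _ _),
      wmap_snd, Category.assoc, hθ]

end

include hsq hsq' in
/-- The comparison of the models. -/
theorem core [ConnectedSpace T₀] [IsSeparated (p₀ ≫ f₀)] [LocallyOfFiniteType (p₀ ≫ f₀)] {G : Type v}
    (σ : G → (T ⟶ T)) (hσ : ∀ g, σ g ≫ p = p) (σ₀ : G → (T₀ ⟶ T₀))
    (hσ₀ : ∀ g, σ₀ g ≫ p₀ = p₀) (hθ : ∀ g, i' ≫ σ g = σ₀ g ≫ i')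
    (E : Over (Spec (CommRingCat.of (IsLocalRing.ResidueField Λ)))) [GrpObj E] [AbS E] (ρ₀ : G → (E.left ⟶ E.left))
    (J : Over S₀) [GrpObj J] [AbS J] (q₀ : (Red.bc p₀ J).left ⟶ E.left) (hq₀ : CP (p₀ ≫ f₀) (Red.bc p₀ J) E q₀)
    (hρ₀ : ∀ g, act p₀ σ₀ hσ₀ J g ≫ q₀ = q₀ ≫ ρ₀ g)
    (JJ : Over S) [GrpObj JJ] [AbS JJ] (u : J.left ⟶ JJ.left) (hu : CP i J JJ u)
    (E' : Over (Spec (CommRingCat.of Λ))) [GrpObj E'] [AbS E'] (ρ' : G → (E'.left ⟶ E'.left))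
    (q' : (Red.bc p JJ).left ⟶ E'.left) (hq' : CP (p ≫ f) (Red.bc p JJ) E' q')
    (hρ' : ∀ g, act p σ hσ JJ g ≫ q' = q' ≫ ρ' g) :
    ∃ r : E.left ⟶ E'.left, CP (res Λ) E E' r ∧ ∀ g, ρ₀ g ≫ r = r ≫ ρ' g := by
  let w := wmap p p₀ i i' hsq' J JJ u hu
  have hw : CP i' (Red.bc p₀ J) (Red.bc p JJ) w := cp_wmap p p₀ i i' hsq' J JJ u hu
  have hb : i' ≫ p ≫ f = (p₀ ≫ f₀) ≫ res Λ := by
    rw [← Category.assoc, hsq'.w, Category.assoc, hsq.w, Category.assoc]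
  have hv : CP ((p₀ ≫ f₀) ≫ res Λ) (Red.bc p₀ J) E' (w ≫ q') := (hw.comp hq').congr hb
  have hne : Nonempty T₀ := inferInstance
  obtain ⟨a₀, ha₀⟩ := K320.CurvePts.exists_section (p₀ ≫ f₀)
  have hacl : IsClosedImmersion a₀ := by
    have h1 : IsClosedImmersion (a₀ ≫ (p₀ ≫ f₀)) := by rw [ha₀]; infer_instance
    exact IsClosedImmersion.of_comp a₀ (p₀ ≫ f₀)
  have hconst := hq₀.const a₀ ha₀ hv.toPT
  refine ⟨hq₀.sec a₀ ha₀ ≫ w ≫ q', hq₀.cp_sec_comp a₀ ha₀ hv, fun g => ?_⟩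
  refine hq₀.cancel _ _ ⟨a₀, ha₀⟩ ?_
  rw [← Category.assoc, ← hρ₀, Category.assoc, ← hconst, ← Category.assoc q₀, ← hconst, Category.assoc, ← hρ',
    ← Category.assoc, ← Category.assoc, act_wmap p p₀ i i' hsq' J JJ u hu σ hσ σ₀ hσ₀ hθ]

omit [IsAlgClosed (IsLocalRing.ResidueField Λ)] in
theorem isUnit_natCast {Z : Scheme.{u}} (h : Z ⟶ Spec (CommRingCat.of Λ)) (n : ℕ) (hn : IsUnit (n : Λ)) :
    IsUnit ((n : ℤ) : Γ(Z, ⊤)) := by
  have h1 : IsUnit (((Scheme.ΓSpecIso (CommRingCat.of Λ)).inv ≫ h.appTop).hom (n : Λ)) := hn.map _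
  rw [map_natCast] at h1
  rwa [Int.cast_natCast]

include hsq hsq' in
/-- The lifting of `J` acquires a level structure on the cover. -/
theorem exists_levelStr_lift
    (E : Over (Spec (CommRingCat.of (IsLocalRing.ResidueField Λ)))) [GrpObj E] (hE : AgPol.IsAbSch E 1)
    (J : Over S₀) [GrpObj J] [AbS J] (q₀ : (Red.bc p₀ J).left ⟶ E.left) (hq₀ : CP (p₀ ≫ f₀) (Red.bc p₀ J) E q₀)
    (JJ : Over S) [GrpObj JJ] [AbS JJ] (u : J.left ⟶ JJ.left) (hu : CP i J JJ u) (n : ℕ) (hn : IsUnit (n : Λ)) :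
    ∃ τ : Fin (2 * 1) → (𝟙_ (Over T) ⟶ Red.bc p JJ), AgPol.IsLevelStr (Red.bc p JJ) 1 n τ := by
  have hE' : AbS E := AbS.of_isAbSch hE
  have hnk : (n : IsLocalRing.ResidueField Λ) ≠ 0 := by
    have h1 : IsUnit (IsLocalRing.residue Λ (n : Λ)) := hn.map _
    rw [map_natCast] at h1
    exact h1.ne_zero
  obtain ⟨σE, hσE⟩ := exists_levelStr E 1 hE n hnk
  obtain ⟨σJ, hσJ⟩ := exists_levelStr_of_cp hq₀ 1 n hσE
  have hw : CP i' (Red.bc p₀ J) (Red.bc p JJ) (wmap p p₀ i i' hsq' J JJ u hu) := cp_wmap p p₀ i i' hsq' J JJ u hu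
  have h1 : IsClosedImmersion i := MorphismProperty.of_isPullback hsq.flip inferInstance
  have h2 : Surjective i := MorphismProperty.of_isPullback hsq.flip inferInstance
  have h3 : IsClosedImmersion i' := MorphismProperty.of_isPullback hsq'.flip h1
  have h4 : Surjective i' := MorphismProperty.of_isPullback hsq'.flip h2
  refine exists_levelStr_of_lift hw (fun Ω _ _ t => ?_) 1 n ?_ hσJ
  · obtain ⟨t₁, ht₁⟩ := exists_fac (t ≫ p ≫ f)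
    have h5 : (t ≫ p) ≫ f = t₁ ≫ res Λ := by rw [Category.assoc, ht₁]
    have h6 : t ≫ p = hsq.lift (t ≫ p) t₁ h5 ≫ i := (hsq.lift_fst _ _ _).symm
    exact ⟨hsq'.lift t (hsq.lift (t ≫ p) t₁ h5) h6, hsq'.lift_fst _ _ _⟩
  · have h5 := K448.MulFibre.etale_zpow (Red.bc p JJ) (n : ℤ) (isUnit_natCast (p ≫ f) n hn)
    rwa [zpow_natCast] at h5

/-- There is an integer `n ≥ 3` invertible in a local ring. -/
theorem exists_isUnit (R : Type u) [CommRing R] [IsLocalRing R] : ∃ n : ℕ, 3 ≤ n ∧ IsUnit (n : R) := by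
  by_cases h : IsUnit ((3 : ℕ) : R)
  · exact ⟨3, le_rfl, h⟩
  · refine ⟨4, by norm_num, ?_⟩
    by_contra h4
    have h5 : ((4 : ℕ) : R) - ((3 : ℕ) : R) ∈ IsLocalRing.maximalIdeal R :=
      Ideal.sub_mem _ ((IsLocalRing.mem_maximalIdeal _).mpr h4) ((IsLocalRing.mem_maximalIdeal _).mpr h)
    have h6 : ((4 : ℕ) : R) - ((3 : ℕ) : R) = 1 := by push_cast; norm_num
    rw [h6] at h5
    exact (IsLocalRing.mem_maximalIdeal _).mp h5 isUnit_one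

end K262.AB
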