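import Groth.Agent.EllLift.K262.Equiv
import Groth.Agent.Flat2G.ProperDim
import Groth.Prelude.Def_PiSp
import Groth.Prelude.Def_Models

/-!
# The equivariant model over `Λ` of an elliptic curve over a Galois cover (reduction of `S14290` to `S14288`)
-/

set_option autoImplicit false

universe u

open CategoryTheory CategoryTheory.Limits MonoidalCategory CartesianMonoidalCategory MonObj GrpObj
  AlgebraicGeometry

namespace K262.EllSplit

open K262.EllPtd K262.EllGeom

theorem isAbSch_bc {T B : Scheme.{u}} (φ : T ⟶ B) {E : Over B} [GrpObj E] {g : ℕ} (h : AgPol.IsAbSch E g) :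
    AgPol.IsAbSch (Red.bc φ E) g where
  smooth := by
    have := h.smooth
    exact inferInstanceAs (Smooth (pullback.snd E.hom φ))
  proper := by
    have := h.proper
    exact inferInstanceAs (IsProper (pullback.snd E.hom φ))
  geomConnected := by
    have := h.geomConnected
    exact inferInstanceAs (GeometricallyConnected (pullback.snd E.hom φ))
  fibreDim s := by
    have := h.smooth
    exact (Groth.Agent.Flat2G.ProperDim.topologicalKrullDim_fiber_baseChange E.hom (pullback.snd E.hom φ)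
      (pullback.fst E.hom φ) φ (IsPullback.of_hasPullback _ _) s).trans (h.fibreDim _)

/-- The abelian scheme `J / T` descends to `B`, as a pointed scheme. -/
def DescTo {T B : Scheme.{u}} (f : T ⟶ B) (J : Over T) [GrpObj J] (g : ℕ) : Prop :=
  ∃ (E : Over B) (ε : B ⟶ E.left), ε ≫ E.hom = 𝟙 _ ∧ AgPol.IsAbSch E g ∧
    ∃ e : J.left ≅ pullback E.hom f, e.hom ≫ pullback.snd E.hom f = J.hom ∧
      η[J].left ≫ e.hom ≫ pullback.fst E.hom f = (𝟙_ (Over T)).hom ≫ f ≫ ε

/-- With a section `a` of `f`, the restriction of `J` to the section is a model of `J`. -/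
theorem DescTo.exists_cp {T B : Scheme.{u}} {f : T ⟶ B} {J : Over T} [GrpObj J] {g : ℕ} (H : DescTo f J g)
    (a : B ⟶ T) (ha : a ≫ f = 𝟙 B) : ∃ q : J.left ⟶ (Red.bc a J).left, CP f J (Red.bc a J) q := by
  obtain ⟨E, ε, hε, hE, e, he, he0⟩ := H
  let q₀ : J.left ⟶ E.left := e.hom ≫ pullback.fst E.hom f
  have h0 : IsPullback q₀ J.hom E.hom f :=
    (IsPullback.of_hasPullback E.hom f).of_iso e.symm (Iso.refl _) (Iso.refl _) (Iso.refl _)
      (by simp [q₀]) (by simp [← he]) (by simp) (by simp)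
  have h1 : IsPullback (pullback.fst J.hom a) (Red.bc a J).hom J.hom a := IsPullback.of_hasPullback _ _
  have h2 : IsPullback (pullback.fst J.hom a ≫ q₀) (Red.bc a J).hom E.hom (a ≫ f) := h1.paste_horiz h0
  rw [ha] at h2
  have h3 : IsIso (pullback.fst J.hom a ≫ q₀) := h2.isIso_fst_of_isIso
  have hz : zer J ≫ q₀ = f ≫ ε := he0.trans (Category.id_comp _)
  have hz' : zer (Red.bc a J) ≫ pullback.fst J.hom a ≫ q₀ = ε := by
    rw [zer_bc_fst_assoc, hz, ← Category.assoc, ha, Category.id_comp]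
  have hz'' : zer (Red.bc a J) = ε ≫ inv (pullback.fst J.hom a ≫ q₀) := by
    rw [IsIso.eq_comp_inv]
    exact hz'
  have h4 : inv (pullback.fst J.hom a ≫ q₀) ≫ (Red.bc a J).hom = E.hom := by
    rw [IsIso.inv_comp_eq, h2.w, Category.comp_id]
  refine ⟨q₀ ≫ inv (pullback.fst J.hom a ≫ q₀), ⟨?_, ?_⟩, ?_⟩
  · rw [Category.assoc, h4]
    exact h0.w
  · rw [hz'', ← Category.assoc, hz, Category.assoc]
  · refine h0.of_iso (Iso.refl _) (asIso (pullback.fst J.hom a ≫ q₀)).symm (Iso.refl _) (Iso.refl _) (by simp)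
      (by simp) ?_ (by simp)
    rw [Iso.refl_hom, Category.comp_id]
    exact h4.symm

variable {Λ : Type u} [CommRing Λ] [IsArtinianRing Λ] [IsLocalRing Λ] [IsAlgClosed (IsLocalRing.ResidueField Λ)]
  {S S₀ : Scheme.{u}} (f : S ⟶ Spec (CommRingCat.of Λ)) [IsProper f] [Flat f]
  (i : S₀ ⟶ S) (f₀ : S₀ ⟶ Spec (CommRingCat.of (IsLocalRing.ResidueField Λ)))
  (hsq : IsPullback i f₀ f (res Λ)) (hreg : Models.IsRegularScheme S₀)

include hsq hreg in
theorem smooth_of_isRegularScheme : Smooth f := by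
  have h1 : IsProper f₀ := MorphismProperty.of_isPullback hsq ‹_›
  have h2 : Smooth f₀ := smooth_of_regular f₀ hreg
  exact smooth_of_fibre f i f₀ hsq

omit [Flat f] in
/-- The equivariant model. -/
theorem exists_equivariant (hf : Smooth f) (J : Over S) [GrpObj J] (hJ : AgPol.IsAbSch J 1) (S' : FEt.Cat S) [ConnectedSpace S'.left]
    (H : DescTo (S'.hom ≫ f) (Red.bc S'.hom J) 1) :
    ∃ (E : Over (Spec (CommRingCat.of Λ))) (_ : GrpObj E), AgPol.IsAbSch E 1 ∧
      ∃ (ρ : Aut S' →* Aut (Grp.mk E)) (e : Grp.mk (Red.bc S'.hom J) ≅ Grp.mk (Red.bc (S'.hom ≫ f) E)),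
        ∀ g : Aut S',
          (pullback.map J.hom S'.hom J.hom S'.hom (𝟙 J.left) g.hom.hom.left (𝟙 S)
          ((Category.comp_id _).trans (Category.id_comp _).symm)
          ((Category.comp_id _).trans (Over.w g.hom.hom).symm)) ≫ e.hom.hom.hom.left =
          e.hom.hom.hom.left ≫ (pullback.map E.hom (S'.hom ≫ f) E.hom (S'.hom ≫ f) (ρ g).hom.hom.hom.left g.hom.hom.left (𝟙 _)
          ((Category.comp_id _).trans (Over.w (ρ g).hom.hom.hom).symm)
          ((Category.comp_id _).trans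
            (((Category.assoc _ _ _).symm).trans (eq_whisker (Over.w g.hom.hom) f)).symm)) := by
  have hS1 : IsFinite S'.hom := S'.prop.1
  have hS2 : Etale S'.hom := S'.prop.2
  have hne : Nonempty S'.left := inferInstance
  have hsm : Smooth (S'.hom ≫ f) := inferInstanceAs (Smooth ((S'.hom : S'.left ⟶ S) ≫ f))
  obtain ⟨a, ha⟩ := exists_section (Y := S'.left) (S'.hom ≫ f)
  have hacl : IsClosedImmersion a := by
    have h1 : IsClosedImmersion (a ≫ (S'.hom ≫ f)) := by rw [ha]; infer_instance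
    exact IsClosedImmersion.of_comp a (S'.hom ≫ f)
  obtain ⟨q, hq⟩ := H.exists_cp a ha
  have hJ' : AgPol.IsAbSch (Red.bc S'.hom J) 1 := isAbSch_bc S'.hom hJ
  have hE : AgPol.IsAbSch (Red.bc a (Red.bc S'.hom J)) 1 := isAbSch_bc a hJ'
  have : AbS (Red.bc S'.hom J) := AbS.of_isAbSch hJ'
  have : AbS (Red.bc a (Red.bc S'.hom J)) := AbS.of_isAbSch hE
  let γ : Aut S' → ((Red.bc S'.hom J).left ⟶ (Red.bc S'.hom J).left) := fun g =>
    pullback.map J.hom S'.hom J.hom S'.hom (𝟙 J.left) g.hom.hom.left (𝟙 S)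
      ((Category.comp_id _).trans (Category.id_comp _).symm)
      ((Category.comp_id _).trans (Over.w g.hom.hom).symm)
  have hγ : ∀ g, PT g.hom.hom.left (Red.bc S'.hom J) (Red.bc S'.hom J) (γ g) := fun g =>
    pt_map S'.hom S'.hom (𝟙 J.left) (PT.id J) g.hom.hom.left _ _
  have hγf : ∀ g, γ g ≫ pullback.fst J.hom S'.hom = pullback.fst J.hom S'.hom := fun g =>
    (pullback.lift_fst _ _ _).trans (Category.comp_id _)
  have hγs : ∀ g, γ g ≫ pullback.snd J.hom S'.hom = pullback.snd J.hom S'.hom ≫ g.hom.hom.left := fun g =>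
    pullback.lift_snd _ _ _
  have hc : ConnectedSpace ↥((𝟭 Scheme).obj S'.left) := ‹_›
  have hγ1 : γ 1 = 𝟙 _ := by
    refine pullback.hom_ext ?_ ?_
    · exact (hγf 1).trans (Category.id_comp _).symm
    · exact (hγs 1).trans ((Category.comp_id _).trans (Category.id_comp _).symm)
  have hγm : ∀ g g', γ (g * g') = γ g' ≫ γ g := fun g g' => by
    refine pullback.hom_ext ?_ ?_
    · rw [Category.assoc, hγf, hγf, hγf]
    · rw [Category.assoc, hγs, hγs, ← Category.assoc, hγs, Category.assoc]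
      rfl
  obtain ⟨ρ, hρ⟩ := hq.exists_action a ha (fun g : Aut S' => g.hom.hom.left)
    (fun g => ((Category.assoc _ _ _).symm).trans (eq_whisker (Over.w g.hom.hom) f)) γ hγ hγ1 hγm
  refine ⟨Red.bc a (Red.bc S'.hom J), inferInstance, hE, ρ, hq.iso, fun g => ?_⟩
  refine pullback.hom_ext ?_ ?_
  · rw [Category.assoc, Category.assoc, CP.iso_hom_fst, pullback.lift_fst, CP.iso_hom_fst_assoc]
    exact hρ g
  · rw [Category.assoc, Category.assoc, CP.iso_hom_snd, pullback.lift_snd, CP.iso_hom_snd_assoc]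
    exact (hγ g).w

end K262.EllSplit
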