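import Groth.Agent.EllLift.K262.Geom
import Groth.Agent.Etcore.CurveAffine
import Groth.Agent.S0440
import Groth.Agent.Flat2G.ProperDim

/-!
# Finite sets of points in base changes of elliptic curves over an Artinian local ring
-/

set_option autoImplicit false

universe u v

open CategoryTheory CategoryTheory.Limits AlgebraicGeometry

namespace K262.Orb

open K262.EllGeom

/-- A curve over an algebraically closed field has infinitely many closed points. -/
theorem exists_closed_not_mem {k : Type u} [Field k] {X : Scheme.{u}}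
    (f : X ⟶ Spec (CommRingCat.of k)) [LocallyOfFiniteType f] [IsIntegral X] (hdim : topologicalKrullDim X = 1)
    (F : Set X) (hF : F.Finite) : ∃ c : X, IsClosed ({c} : Set X) ∧ c ∉ F := by
  have hj : JacobsonSpace X := LocallyOfFiniteType.jacobsonSpace f
  let F' : Set X := F ∩ closedPoints X
  have hF' : IsClosed F' := by
    have h1 : F' = ⋃ x ∈ F', {x} := by simp
    rw [h1]
    exact (hF.inter_of_left _).isClosed_biUnion (fun x hx => hx.2)
  have hU : (F'ᶜ).Nonempty := ⟨genericPoint X, fun h => K320.CurvePts.generic_ne hdim h.2 rfl⟩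
  obtain ⟨c, hc1, hc2⟩ := nonempty_inter_closedPoints hU hF'.isOpen_compl.isLocallyClosed
  exact ⟨c, hc2, fun h => hc1 ⟨h, hc2⟩⟩

/-- Products of affine opens over an affine base are affine. -/
theorem isAffineOpen_inf {X Y S : Scheme.{u}} (f : X ⟶ S) (g : Y ⟶ S) [IsAffine S] {U : X.Opens} {V : Y.Opens}
    (hU : IsAffineOpen U) (hV : IsAffineOpen V) :
    IsAffineOpen (pullback.fst f g ⁻¹ᵁ U ⊓ pullback.snd f g ⁻¹ᵁ V) := by
  have h1 : IsAffine _ := isAffineOpen_top S
  have h2 : IsAffine _ := hU
  have h3 : IsAffine _ := hV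
  exact .of_isIso (Scheme.Hom.isPullback_resLE (IsPullback.of_hasPullback f g) (UX := U) (UT := V) (US := ⊤)
    le_top le_top rfl).isoPullback.hom

variable {Λ : Type u} [CommRing Λ] [IsArtinianRing Λ] [IsLocalRing Λ]

/-- Finite sets of points of an elliptic curve over `Λ` are contained in affine opens. -/
theorem exists_affine (E : Over (Spec (CommRingCat.of Λ))) (hE : AgPol.IsAbSch E 1) (F : Set E.left) (hF : F.Finite) :
    ∃ V : E.left.Opens, IsAffineOpen V ∧ F ⊆ V := by
  have h1 := hE.smooth
  have h2 := hE.proper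
  have h3 := hE.geomConnected
  let j := pullback.fst E.hom (res Λ)
  let s := pullback.snd E.hom (res Λ)
  have h4 : GeometricallyConnected s := inferInstanceAs (GeometricallyConnected (pullback.snd E.hom (res Λ)))
  have h5 : Smooth s := inferInstanceAs (Smooth (pullback.snd E.hom (res Λ)))
  have h6 : IsProper s := inferInstanceAs (IsProper (pullback.snd E.hom (res Λ)))
  have h7 : IsClosedImmersion j := inferInstanceAs (IsClosedImmersion (pullback.fst E.hom (res Λ)))
  have h8 : Surjective j := inferInstanceAs (Surjective (pullback.fst E.hom (res Λ)))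
  have h9 : ConnectedSpace ↥(pullback E.hom (res Λ)) := GeometricallyConnected.connectedSpace_of_subsingleton s
  have h10 : IsIntegral (pullback E.hom (res Λ)) := isIntegral_of_smooth s
  have hdim : topologicalKrullDim ↥(pullback E.hom (res Λ)) = 1 := by
    rw [Groth.Agent.Flat2G.ProperDim.topologicalKrullDim_field_point E.hom
      (Field.toIsField (IsLocalRing.ResidueField Λ)) s j (res Λ) (IsPullback.of_hasPullback _ _)
      (IsLocalRing.closedPoint (IsLocalRing.ResidueField Λ))]
    exact_mod_cast hE.fibreDim _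
  obtain ⟨c, hc, hcF⟩ := exists_closed_not_mem s hdim (j ⁻¹' F) (hF.preimage j.isClosedEmbedding.injective.injOn)
  have hjc : IsClosed ({j c} : Set E.left) := by
    have := j.isClosedEmbedding.isClosedMap _ hc
    rwa [Set.image_singleton] at this
  let V : E.left.Opens := ⟨{j c}ᶜ, hjc.isOpen_compl⟩
  have hVk : ((j ⁻¹ᵁ V : (pullback E.hom (res Λ)).Opens) : Set ↥(pullback E.hom (res Λ)))ᶜ = {c} := by
    ext x
    simp only [Set.mem_compl_iff, SetLike.mem_coe, Set.mem_singleton_iff]
    constructor
    · intro hx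
      by_contra hne
      exact hx fun h => hne (j.isClosedEmbedding.injective h)
    · rintro rfl hx
      exact hx rfl
  have haff : IsAffine (j ⁻¹ᵁ V).toScheme :=
    Groth.Agent.Etcore.CurveAffine.isAffine_open (IsLocalRing.ResidueField Λ) _ s hdim (j ⁻¹ᵁ V)
      (by rw [hVk]; exact Set.finite_singleton c) (by rw [hVk]; exact Set.singleton_nonempty c)
  refine ⟨V, ?_, fun x hx hxc => ?_⟩
  · have h11 : IsClosedImmersion (j ∣_ V) := inferInstance
    have h12 : Surjective (j ∣_ V) := MorphismProperty.of_isPullback (isPullback_morphismRestrict j V).flip h8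
    exact Groth.Agent.S0440.result (j ∣_ V) h12.surj
  · rw [Set.mem_singleton_iff] at hxc
    exact hcF (by rw [Set.mem_preimage, ← hxc]; exact hx)

/-- Orbits of a finite group acting on `E ×_Λ T` compatibly with an action on `T / S`, where `T ⟶ S` is affine, are
contained in affine opens. -/
theorem exists_affine_orbit (E : Over (Spec (CommRingCat.of Λ))) (hE : AgPol.IsAbSch E 1) {S T : Scheme.{u}} (p : T ⟶ S)
    [IsAffineHom p] (f : T ⟶ Spec (CommRingCat.of Λ)) {G : Type v} [Finite G]
    (γ : G → (pullback E.hom f ⟶ pullback E.hom f))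
    (hγ : ∀ g, γ g ≫ pullback.snd E.hom f ≫ p = pullback.snd E.hom f ≫ p) (z : ↥(pullback E.hom f)) :
    ∃ U : (pullback E.hom f).Opens, IsAffineOpen U ∧ ∀ g, γ g z ∈ U := by
  obtain ⟨V, hV, hVF⟩ := exists_affine E hE (Set.range fun g : G => pullback.fst E.hom f (γ g z)) (Set.finite_range _)
  obtain ⟨_, ⟨O, hO, rfl⟩, hO', -⟩ := S.isBasis_affineOpens.exists_subset_of_mem_open
    (Set.mem_univ ((pullback.snd E.hom f ≫ p) z)) isOpen_univ
  refine ⟨pullback.fst E.hom f ⁻¹ᵁ V ⊓ pullback.snd E.hom f ⁻¹ᵁ (p ⁻¹ᵁ O),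
    isAffineOpen_inf E.hom f hV (hO.preimage p), fun g => ⟨hVF ⟨g, rfl⟩, ?_⟩⟩
  change p (pullback.snd E.hom f (γ g z)) ∈ O
  have h1 : p (pullback.snd E.hom f (γ g z)) = (γ g ≫ pullback.snd E.hom f ≫ p) z := by
    simp only [Scheme.Hom.comp_apply]
  rw [h1, hγ]
  exact hO'

end K262.Orb
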