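import Groth.Agent.EllLift.K262.Desc
import Groth.Agent.S2907
import Groth.Agent.S2909
import Groth.Agent.S2920
import Groth.Agent.S2925
import Groth.Agent.Etbase.TopInv
import Groth.Agent.Curves.K320.CurvePts

/-!
# Quotients of schemes over a Galois cover

For a Galois cover `p : T ⟶ S` with group `G` and a `T`-scheme `X` with a compatible action of `G`, whose orbits are
contained in affine opens, the quotient `Y` of `X` exists and `X = Y ×_S T`.
-/

set_option autoImplicit false

universe u v

open CategoryTheory CategoryTheory.Limits MonoidalCategory CartesianMonoidalCategory MonObj GrpObj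
  AlgebraicGeometry

namespace K262.GalD

open Groth.Agent.Pi1.H416.PrincDesc

/-- Geometric points lift along surjective morphisms locally of finite type. -/
theorem exists_lift_point {X Y : Scheme.{u}} (q : X ⟶ Y) [Surjective q] [LocallyOfFiniteType q] {Ω : Type u} [Field Ω]
    [IsAlgClosed Ω] (y : Spec (CommRingCat.of Ω) ⟶ Y) : ∃ x : Spec (CommRingCat.of Ω) ⟶ X, x ≫ q = y := by
  have h1 : Nonempty ↥(pullback q y) := by
    have h2 : Surjective (pullback.snd q y) := inferInstance
    obtain ⟨z, -⟩ := h2.surj (IsLocalRing.closedPoint Ω)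
    exact ⟨z⟩
  obtain ⟨s, hs⟩ := K320.CurvePts.exists_section (pullback.snd q y)
  exact ⟨s ≫ pullback.fst q y, by rw [Category.assoc, pullback.condition, ← Category.assoc, hs, Category.id_comp]⟩

/-- A point of a coproduct with values in a field lies in one of the summands. -/
theorem exists_lift_sigma {I : Type u} (Z : I → Scheme.{u}) {K : Type u} [Field K]
    (e : Spec (CommRingCat.of K) ⟶ ∐ Z) : ∃ (i : I) (r : Spec (CommRingCat.of K) ⟶ Z i), r ≫ Sigma.ι Z i = e := by
  obtain ⟨i, z, hz⟩ := (sigmaOpenCover Z).exists_eq (e (IsLocalRing.closedPoint K))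
  have h1 : Set.range e ⊆ Set.range (Sigma.ι Z i) := by
    rintro _ ⟨w, rfl⟩
    rw [Subsingleton.elim w (IsLocalRing.closedPoint K)]
    exact ⟨z, hz⟩
  exact ⟨i, IsOpenImmersion.lift (Sigma.ι Z i) e h1, IsOpenImmersion.lift_fac _ _ _⟩

set_option backward.isDefEq.respectTransparency.types false in
theorem Gal.exists_quot {T S X : Scheme.{u}} {p : T ⟶ S} {G : Type u} [Group G] [Finite G] {σ : G → (T ⟶ T)}
    (h : Gal p σ)
    (hfree : ∀ (K : Type u) [Field K] (y : Spec (CommRingCat.of K) ⟶ T) (g : G), y ≫ σ g = y → g = 1)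
    [IsLocallyNoetherian S] (x : X ⟶ T) [LocallyOfFiniteType x] [QuasiCompact x] (ρ : G →* Aut X)
    (hρ : ∀ g, (ρ g).hom ≫ x = x ≫ σ g)
    (haff : ∀ z : X, ∃ U : X.Opens, IsAffineOpen U ∧ ∀ g, (ρ g).hom.base z ∈ U) :
    ∃ (Y : Scheme.{u}) (q : X ⟶ Y) (y : Y ⟶ S), IsPullback q x y p ∧ ∀ g, (ρ g).hom ≫ q = q := by
  have hf := h.finite
  have he := h.etale
  have hs := h.surj
  obtain ⟨Y, q, hq⟩ := Groth.Agent.S2907.result ρ haff
  have hρS : ∀ g, (ρ g).hom ≫ x ≫ p = x ≫ p := fun g => by
    rw [← Category.assoc, hρ, Category.assoc, h.comp]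
  obtain ⟨y, hy, -⟩ := Groth.Agent.S2925.result ρ q hq S (x ≫ p) hρS
  obtain ⟨-, -, h3, h4⟩ := Groth.Agent.S2909.result ρ q hq (x ≫ p) y hy hρS
  have hqfin : IsFinite q := h3 inferInstance
  have hyft : LocallyOfFiniteType y := (h4 inferInstance inferInstance inferInstance).1
  have hYN : IsLocallyNoetherian Y := LocallyOfFiniteType.isLocallyNoetherian y
  obtain ⟨h5, h6, h7⟩ := Groth.Agent.S2920.result ρ q hq (fun K _ _ ξ g hg =>
    hfree K (ξ ≫ x) g (by rw [Category.assoc, ← hρ, ← Category.assoc, hg]))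
  -- `q` is étale
  let d : (∐ fun _ : G => X) ⟶ pullback q q :=
    Sigma.desc (fun g : G => pullback.lift (𝟙 X) (ρ g).hom ((Category.id_comp q).trans (hq.inv g).symm))
  have hdiso : IsIso d := h5
  have hd1 : ∀ g : G, Sigma.ι (fun _ : G => X) g ≫ d =
      pullback.lift (𝟙 X) (ρ g).hom ((Category.id_comp q).trans (hq.inv g).symm) := fun g => Sigma.ι_desc _ _
  have hqe : Etale q := by
    have e1 : d ≫ pullback.fst q q = Sigma.desc (fun _ : G => 𝟙 X) := by
      refine Sigma.hom_ext _ _ fun g => ?_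
      rw [← Category.assoc, hd1, pullback.lift_fst, Sigma.ι_desc]
    have e2 : Etale (Sigma.desc (fun _ : G => 𝟙 X)) :=
      IsZariskiLocalAtSource.sigmaDesc (P := @AlgebraicGeometry.Etale) (fun _ => inferInstance)
    have e3 : Etale (pullback.fst q q) := by
      rw [← e1] at e2
      exact (MorphismProperty.cancel_left_of_respectsIso @AlgebraicGeometry.Etale d (pullback.fst q q)).mp e2
    exact MorphismProperty.of_isPullback_of_descendsAlong (P := @AlgebraicGeometry.Etale) (Q := (@Surjective ⊓ @Flat ⊓ @QuasiCompact))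
      (IsPullback.of_hasPullback q q) ⟨⟨h7, h6⟩, inferInstance⟩ e3
  -- the comparison
  let c : X ⟶ pullback y p := pullback.lift q x hy
  have hc1 : c ≫ pullback.fst y p = q := pullback.lift_fst _ _ _
  have hc2 : c ≫ pullback.snd y p = x := pullback.lift_snd _ _ _
  have hce : Etale c := by
    have : Etale (c ≫ pullback.fst y p) := by rw [hc1]; exact hqe
    exact Etale.of_comp c (pullback.fst y p)
  have hcs : Surjective c := by
    refine ⟨fun w => ?_⟩
    obtain ⟨Ω, _, _, s, hs⟩ := exists_geomPt (pullback y p) w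
    obtain ⟨x', hx'⟩ := exists_lift_point q (s ≫ pullback.fst y p)
    obtain ⟨g, hg⟩ := h.trans Ω (x' ≫ x) (s ≫ pullback.snd y p) (by
      rw [Category.assoc, Category.assoc, ← pullback.condition, ← Category.assoc s, ← hx', Category.assoc, hy])
    have h8 : (x' ≫ (ρ g).hom) ≫ c = s := by
      refine pullback.hom_ext ?_ ?_
      · rw [Category.assoc, hc1, Category.assoc, hq.inv, hx']
      · rw [Category.assoc, hc2, Category.assoc, hρ, ← Category.assoc, hg]
    refine ⟨(x' ≫ (ρ g).hom) default, ?_⟩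
    rw [← Scheme.Hom.comp_apply, h8]
    exact hs _
  have hci : UniversallyInjective c := by
    have key : ∀ (K : Type u) [Field K], Function.Injective (fun g : Spec (CommRingCat.of K) ⟶ X ↦ g ≫ c) := ?_
    · exact ((tfae_universallyInjective c).out 0 1).mpr key
    intro K _ x₁ x₂ hx
    have hx : x₁ ≫ c = x₂ ≫ c := hx
    have hx1 : x₁ ≫ q = x₂ ≫ q := by rw [← hc1, ← Category.assoc, hx, Category.assoc]
    have hx2 : x₁ ≫ x = x₂ ≫ x := by rw [← hc2, ← Category.assoc, hx, Category.assoc]
    obtain ⟨g, r, hr⟩ := exists_lift_sigma (K := K) (fun _ : G => X) (pullback.lift x₁ x₂ hx1 ≫ inv d)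
    have hr' : r ≫ pullback.lift (𝟙 X) (ρ g).hom ((Category.id_comp q).trans (hq.inv g).symm) =
        pullback.lift x₁ x₂ hx1 := by
      rw [← hd1, ← Category.assoc, hr, Category.assoc, IsIso.inv_hom_id, Category.comp_id]
    have e1 : r = x₁ := by
      have := congrArg (· ≫ pullback.fst q q) hr'
      simpa only [Category.assoc, pullback.lift_fst, Category.comp_id] using this
    have e2 : r ≫ (ρ g).hom = x₂ := by
      have := congrArg (· ≫ pullback.snd q q) hr'
      simpa only [Category.assoc, pullback.lift_snd] using this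
    have e3 : g = 1 := hfree K (x₁ ≫ x) g (by
      rw [Category.assoc, ← hρ, ← Category.assoc, ← e1, e2, ← hx2, e1])
    rw [← e2, e3, map_one, ← e1]
    exact (Category.comp_id r).symm
  have hciso : IsIso c := Groth.Agent.Etbase.TopInv.isIso_of_etale_of_universallyInjective_of_surjective c
  refine ⟨Y, q, y, ?_, hq.inv⟩
  exact (IsPullback.of_hasPullback y p).of_iso (asIso c).symm (Iso.refl _) (Iso.refl _) (Iso.refl _)
    (by simp [hc1]) (by simp [hc2]) (by simp) (by simp)

end K262.GalD
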