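import Groth.Agent.EllLift.K262.GrpDesc
import Groth.Agent.EllLift.K262.Quot
import Groth.Agent.EllLift.K262.Orbits
import Groth.Agent.EllLift.K262.Main90

/-!
# From a lifting of `E` with its action to a lifting of `J`
-/

set_option autoImplicit false
set_option linter.unusedSectionVars false

universe u v

open CategoryTheory CategoryTheory.Limits MonoidalCategory CartesianMonoidalCategory MonObj GrpObj
  AlgebraicGeometry

namespace K262.BA

open K262.EllPtd K262.EllSplit K262.EllGeom K262.GalD K262.Orb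

/-- Abelian schemes descend. -/
theorem isAbSch_of_cp {T S : Scheme.{u}} {p : T ⟶ S} [Flat p] [Surjective p] [QuasiCompact p] {A : Over T} {N : Over S}
    {q : A.left ⟶ N.left} (sq : IsPullback q A.hom N.hom p) {g : ℕ} (hA : AgPol.IsAbSch A g) : AgPol.IsAbSch N g := by
  have h1 := hA.smooth
  have h2 := hA.proper
  have h3 := hA.geomConnected
  have hQ : (@Surjective ⊓ @Flat ⊓ @QuasiCompact : MorphismProperty Scheme.{u}) p :=
    ⟨⟨inferInstance, inferInstance⟩, inferInstance⟩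
  have e1 : Smooth N.hom := MorphismProperty.of_isPullback_of_descendsAlong (P := @Smooth)
    (Q := (@Surjective ⊓ @Flat ⊓ @QuasiCompact)) sq.flip hQ h1
  have hpd : MorphismProperty.DescendsAlong @IsProper (@Surjective ⊓ @Flat ⊓ @QuasiCompact : MorphismProperty Scheme.{u}) :=
    Groth.Agent.S0086.result
  have e2 : IsProper N.hom := MorphismProperty.of_isPullback_of_descendsAlong (P := @IsProper)
    (Q := (@Surjective ⊓ @Flat ⊓ @QuasiCompact)) sq.flip hQ h2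
  refine ⟨e1, e2, ⟨fun K _ y Z fst snd h => ?_⟩, fun s => ?_⟩
  · -- a point of `T` above `y`, after extension of `K`
    obtain ⟨t, ht, -⟩ := Scheme.Pullback.exists_preimage_pullback (f := p) (g := y)
      ((Surjective.surj (f := p) (y (IsLocalRing.closedPoint K))).choose) (IsLocalRing.closedPoint K)
      (Surjective.surj (f := p) (y (IsLocalRing.closedPoint K))).choose_spec
    let κ := (pullback p y).residueField t
    let b : Spec κ ⟶ pullback p y := (pullback p y).fromSpecResidueField t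
    -- the base change of `A` to `κ` is connected and surjects onto `Z`
    let Z' := pullback A.hom (b ≫ pullback.fst p y)
    have hZ' : ConnectedSpace ↥Z' :=
      h3.geometrically_connectedSpace (b ≫ pullback.fst p y) _ _ (IsPullback.of_hasPullback A.hom (b ≫ pullback.fst p y))
    have hw : (pullback.fst A.hom (b ≫ pullback.fst p y) ≫ q) ≫ N.hom =
        (pullback.snd A.hom (b ≫ pullback.fst p y) ≫ b ≫ pullback.snd p y) ≫ y := by
      rw [Category.assoc, sq.w, ← Category.assoc, pullback.condition]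
      simp only [Category.assoc, pullback.condition]
    let c : Z' ⟶ Z := h.lift (pullback.fst A.hom (b ≫ pullback.fst p y) ≫ q)
      (pullback.snd A.hom (b ≫ pullback.fst p y) ≫ b ≫ pullback.snd p y) hw
    have h4 : IsPullback (pullback.fst A.hom (b ≫ pullback.fst p y) ≫ q) (pullback.snd A.hom (b ≫ pullback.fst p y))
        N.hom ((b ≫ pullback.fst p y) ≫ p) := (IsPullback.of_hasPullback A.hom (b ≫ pullback.fst p y)).paste_horiz sq
    have h5 : (b ≫ pullback.fst p y) ≫ p = (b ≫ pullback.snd p y) ≫ y := by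
      rw [Category.assoc, Category.assoc, pullback.condition]
    rw [h5] at h4
    have h6 : IsPullback c (pullback.snd A.hom (b ≫ pullback.fst p y)) snd (b ≫ pullback.snd p y) := by
      refine IsPullback.of_right (h₁₂ := fst) (v₁₃ := N.hom) (h₂₂ := y) ?_ (h.lift_snd _ _ _) h
      have : c ≫ fst = pullback.fst A.hom (b ≫ pullback.fst p y) ≫ q := h.lift_fst _ _ _
      rw [this]
      exact h4
    have h7 : Surjective (b ≫ pullback.snd p y) :=
      ⟨fun w => ⟨IsLocalRing.closedPoint κ, Subsingleton.elim _ _⟩⟩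
    have h8 : Surjective c := MorphismProperty.of_isPullback h6.flip h7
    exact h8.surj.connectedSpace c.continuous
  · obtain ⟨t, rfl⟩ := Surjective.surj (f := p) s
    rw [← Groth.Agent.Flat2G.ProperDim.topologicalKrullDim_fiber_baseChange N.hom A.hom q p sq t]
    exact hA.fibreDim t

/-- An action by endomorphisms. -/
def autHom {X : Scheme.{u}} {G : Type v} [Group G] (γ : G → (X ⟶ X)) (h1 : γ 1 = 𝟙 X)
    (hm : ∀ g g', γ (g * g') = γ g' ≫ γ g) : G →* Aut X where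
  toFun g := ⟨γ g, γ g⁻¹, by rw [← hm, inv_mul_cancel, h1], by rw [← hm, mul_inv_cancel, h1]⟩
  map_one' := by
    ext1
    exact h1
  map_mul' g g' := by
    ext1
    exact hm g g'

@[simp]
theorem autHom_hom {X : Scheme.{u}} {G : Type v} [Group G] (γ : G → (X ⟶ X)) (h1 : γ 1 = 𝟙 X)
    (hm : ∀ g g', γ (g * g') = γ g' ≫ γ g) (g : G) : (autHom γ h1 hm g).hom = γ g := rfl

section Model

variable {Λ : Type u} [CommRing Λ] [IsArtinianRing Λ] [IsLocalRing Λ]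
  {S T : Scheme.{u}} (p : T ⟶ S) (f : S ⟶ Spec (CommRingCat.of Λ)) [LocallyOfFiniteType f]
  {G : Type u} [Group G] [Finite G] (σ : G → (T ⟶ T)) (h : Gal p σ) (hσ1 : σ 1 = 𝟙 T)
  (hσm : ∀ g g', σ (g * g') = σ g' ≫ σ g)
  (hfree : ∀ (K : Type u) [Field K] (y : Spec (CommRingCat.of K) ⟶ T) (g : G), y ≫ σ g = y → g = 1)
  (EE : Over (Spec (CommRingCat.of Λ))) [GrpObj EE] (hEE : AgPol.IsAbSch EE 1) (ρ : G →* Aut (Grp.mk EE))

include h hσ1 hσm hfree hEE in
/-- The quotient of `EE ×_Λ T` by the diagonal action. -/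
theorem exists_model : ∃ (JJ : Over S) (_ : GrpObj JJ) (q : (Red.bc (p ≫ f) EE).left ⟶ JJ.left),
    AgPol.IsAbSch JJ 1 ∧ CP p (Red.bc (p ≫ f) EE) JJ q ∧
    ∀ (g : G) (γ : (Red.bc (p ≫ f) EE).left ⟶ (Red.bc (p ≫ f) EE).left),
      γ ≫ pullback.fst EE.hom (p ≫ f) = pullback.fst EE.hom (p ≫ f) ≫ (ρ g).hom.hom.hom.left →
      γ ≫ pullback.snd EE.hom (p ≫ f) = pullback.snd EE.hom (p ≫ f) ≫ σ g → γ ≫ q = q := by
  have hf := h.finite
  have he := h.etale
  have hs := h.surj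
  have hp := hEE.proper
  have hSN : IsLocallyNoetherian S := LocallyOfFiniteType.isLocallyNoetherian f
  have hA := isAbSch_bc (p ≫ f) hEE
  have hA' : AbS (Red.bc (p ≫ f) EE) := AbS.of_isAbSch hA
  have hw1 : ∀ g, EE.hom ≫ 𝟙 _ = (ρ g).hom.hom.hom.left ≫ EE.hom := fun g =>
    (Category.comp_id _).trans (Over.w (ρ g).hom.hom.hom).symm
  have hw2 : ∀ g, (p ≫ f) ≫ 𝟙 _ = σ g ≫ p ≫ f := fun g => by
    rw [Category.comp_id, ← Category.assoc, h.comp]
  let γ : G → ((Red.bc (p ≫ f) EE).left ⟶ (Red.bc (p ≫ f) EE).left) := fun g =>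
    pullback.map EE.hom (p ≫ f) EE.hom (p ≫ f) (ρ g).hom.hom.hom.left (σ g) (𝟙 _) (hw1 g) (hw2 g)
  have hγ : ∀ g, PT (σ g) (Red.bc (p ≫ f) EE) (Red.bc (p ≫ f) EE) (γ g) := fun g =>
    pt_map (p ≫ f) (p ≫ f) _ (PT.of_isMonHom (ρ g).hom.hom.hom) (σ g) (hw1 g) (hw2 g)
  have hγf : ∀ g, γ g ≫ pullback.fst EE.hom (p ≫ f) = pullback.fst EE.hom (p ≫ f) ≫ (ρ g).hom.hom.hom.left :=
    fun g => pullback.lift_fst _ _ _
  have hγs : ∀ g, γ g ≫ pullback.snd EE.hom (p ≫ f) = pullback.snd EE.hom (p ≫ f) ≫ σ g :=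
    fun g => pullback.lift_snd _ _ _
  have hρ1 : (ρ 1).hom.hom.hom.left = 𝟙 _ := by rw [map_one]; rfl
  have hρm : ∀ g g', (ρ (g * g')).hom.hom.hom.left = (ρ g').hom.hom.hom.left ≫ (ρ g).hom.hom.hom.left :=
    fun g g' => by rw [map_mul]; rfl
  have hγ1 : γ 1 = 𝟙 _ := by
    refine pullback.hom_ext ?_ ?_
    · rw [hγf, hρ1, Category.comp_id]; exact (Category.id_comp _).symm
    · rw [hγs, hσ1, Category.comp_id]; exact (Category.id_comp _).symm
  have hγm : ∀ g g', γ (g * g') = γ g' ≫ γ g := fun g g' => by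
    refine pullback.hom_ext ?_ ?_
    · rw [hγf, hρm, Category.assoc, hγf, ← Category.assoc (γ g'), hγf, Category.assoc]
    · rw [hγs, hσm, Category.assoc, hγs, ← Category.assoc (γ g'), hγs, Category.assoc]
  have hlft : LocallyOfFiniteType (pullback.snd EE.hom (p ≫ f)) := inferInstance
  obtain ⟨Y, q, y, sq, hq⟩ := h.exists_quot hfree (pullback.snd EE.hom (p ≫ f))
    (autHom γ hγ1 hγm) (fun g => hγs g) (fun z => exists_affine_orbit EE hEE p (p ≫ f) γ (fun g => by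
      rw [← Category.assoc, hγs, Category.assoc, h.comp]) z)
  obtain ⟨GJ, hcp⟩ := h.exists_cp (N := Over.mk y) (Red.bc (p ≫ f) EE) q sq γ hq hγ
  refine ⟨Over.mk y, GJ, q, isAbSch_of_cp (N := Over.mk y) sq hA, hcp, fun g γ' h1 h2 => ?_⟩
  have h3 : γ' = γ g := by
    refine pullback.hom_ext ?_ ?_
    · rw [h1, hγf]
    · rw [h2, hγs]
  rw [h3]
  exact hq g

end Model

section Compare

variable {Λ : Type u} [CommRing Λ] [IsArtinianRing Λ] [IsLocalRing Λ]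
  {S S₀ T T₀ : Scheme.{u}} (p : T ⟶ S) (p₀ : T₀ ⟶ S₀) (i : S₀ ⟶ S) (i' : T₀ ⟶ T)
  (f : S ⟶ Spec (CommRingCat.of Λ)) (f₀ : S₀ ⟶ Spec (CommRingCat.of (IsLocalRing.ResidueField Λ)))
  (hsq : IsPullback i f₀ f (res Λ)) (hsq' : IsPullback i' p₀ p i)
  {G : Type v} (σ : G → (T ⟶ T)) (σ₀ : G → (T₀ ⟶ T₀)) (h₀ : Gal p₀ σ₀) (hθ : ∀ g, i' ≫ σ g = σ₀ g ≫ i')

include hsq hsq' hθ in
/-- Comparison of the quotient with `J` on the special fibre. -/
theorem compare
    (E : Over (Spec (CommRingCat.of (IsLocalRing.ResidueField Λ)))) [GrpObj E] [AbS E] (ρ₀ : G → (E ⟶ E))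
    (J : Over S₀) [GrpObj J] [AbS J] (q₀ : (Red.bc p₀ J).left ⟶ E.left) (hq₀ : CP (p₀ ≫ f₀) (Red.bc p₀ J) E q₀)
    (hρ₀ : ∀ g, act p₀ σ₀ h₀.comp J g ≫ q₀ = q₀ ≫ (ρ₀ g).left)
    (EE : Over (Spec (CommRingCat.of Λ))) [GrpObj EE] [AbS EE] (ρ : G → (EE ⟶ EE))
    (r : E.left ⟶ EE.left) (hr : CP (res Λ) E EE r) (hρ : ∀ g, (ρ₀ g).left ≫ r = r ≫ (ρ g).left)
    (JJ : Over S) [GrpObj JJ] [AbS JJ] (q : (Red.bc (p ≫ f) EE).left ⟶ JJ.left) (hq : CP p (Red.bc (p ≫ f) EE) JJ q)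
    (γ : G → ((Red.bc (p ≫ f) EE).left ⟶ (Red.bc (p ≫ f) EE).left))
    (hγf : ∀ g, γ g ≫ pullback.fst EE.hom (p ≫ f) = pullback.fst EE.hom (p ≫ f) ≫ (ρ g).left)
    (hγs : ∀ g, γ g ≫ pullback.snd EE.hom (p ≫ f) = pullback.snd EE.hom (p ≫ f) ≫ σ g)
    (hγq : ∀ g, γ g ≫ q = q) :
    Nonempty (Grp.mk (Red.bc i JJ) ≅ Grp.mk J) := by
  have hepi := h₀.epi
  let JJ₀ := Red.bc i JJ
  have hb : i' ≫ p ≫ f = (p₀ ≫ f₀) ≫ res Λ := by
    rw [← Category.assoc, hsq'.w, Category.assoc, hsq.w, Category.assoc]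
  -- the comparison with `EE ×_Λ T`
  have hm0 : CP (i' ≫ p) (Red.bc p₀ JJ₀) JJ (pullback.fst JJ₀.hom p₀ ≫ pullback.fst JJ.hom i) :=
    ((cp_bc p₀ JJ₀).comp (cp_bc i JJ)).congr hsq'.w.symm
  let m : (Red.bc p₀ JJ₀).left ⟶ (Red.bc (p ≫ f) EE).left := hq.lift i' hm0.toPT
  have hm : CP i' (Red.bc p₀ JJ₀) (Red.bc (p ≫ f) EE) m := hq.cp_lift i' hm0
  have hmq : m ≫ q = pullback.fst JJ₀.hom p₀ ≫ pullback.fst JJ.hom i := hq.lift_comp i' _
  have hms : m ≫ pullback.snd EE.hom (p ≫ f) = pullback.snd JJ₀.hom p₀ ≫ i' := hq.lift_hom i' _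
  have hmact : ∀ g, act p₀ σ₀ h₀.comp JJ₀ g ≫ m = m ≫ γ g := fun g => by
    refine hq.isPullback.hom_ext ?_ ?_
    · rw [Category.assoc, Category.assoc, hγq, hmq, act_fst_assoc]
    · have e1 : (act p₀ σ₀ h₀.comp JJ₀ g ≫ m) ≫ pullback.snd EE.hom (p ≫ f) =
          (m ≫ γ g) ≫ pullback.snd EE.hom (p ≫ f) := by
        rw [Category.assoc, Category.assoc, hγs, hms, act_snd_assoc, ← Category.assoc m, hms, Category.assoc, hθ]
      exact e1
  -- the projection to `E`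
  have hq10 : CP ((p₀ ≫ f₀) ≫ res Λ) (Red.bc p₀ JJ₀) EE (m ≫ pullback.fst EE.hom (p ≫ f)) :=
    (hm.comp (cp_bc (p ≫ f) EE)).congr hb
  let q₁ : (Red.bc p₀ JJ₀).left ⟶ E.left := hr.lift (p₀ ≫ f₀) hq10.toPT
  have hq₁ : CP (p₀ ≫ f₀) (Red.bc p₀ JJ₀) E q₁ := hr.cp_lift (p₀ ≫ f₀) hq10
  have hq1r : q₁ ≫ r = m ≫ pullback.fst EE.hom (p ≫ f) := hr.lift_comp _ _
  have hq1act : ∀ g, act p₀ σ₀ h₀.comp JJ₀ g ≫ q₁ = q₁ ≫ (ρ₀ g).left := fun g => by
    refine hr.isPullback.hom_ext ?_ ?_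
    · rw [Category.assoc, hq1r, ← Category.assoc, hmact, Category.assoc, hγf, Category.assoc, hρ,
        ← Category.assoc, ← hq1r, Category.assoc]
    · rw [Category.assoc, Category.assoc, Over.w (ρ₀ g), hq₁.w, ← Category.assoc, act_hom, Category.assoc,
        ← Category.assoc (σ₀ g), h₀.comp]
  -- the isomorphism over `T₀`
  have hφ0 : CP (𝟙 T₀ ≫ p₀ ≫ f₀) (Red.bc p₀ JJ₀) E q₁ := hq₁.congr (Category.id_comp _).symm
  let φ : (Red.bc p₀ JJ₀).left ⟶ (Red.bc p₀ J).left := hq₀.lift (𝟙 T₀) hφ0.toPT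
  have hφ : CP (𝟙 T₀) (Red.bc p₀ JJ₀) (Red.bc p₀ J) φ := hq₀.cp_lift (𝟙 T₀) hφ0
  have hφq : φ ≫ q₀ = q₁ := hq₀.lift_comp _ _
  have hφact : ∀ g, act p₀ σ₀ h₀.comp JJ₀ g ≫ φ = φ ≫ act p₀ σ₀ h₀.comp J g := fun g => by
    refine hq₀.isPullback.hom_ext ?_ ?_
    · rw [Category.assoc, Category.assoc, hφq, hρ₀, hq1act, ← Category.assoc φ, hφq]
    · rw [Category.assoc, Category.assoc, hφ.w, ← Category.assoc]
      erw [act_hom p₀ σ₀ h₀.comp JJ₀ g, act_hom p₀ σ₀ h₀.comp J g]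
      rw [← Category.assoc φ]
      erw [hφ.w]
      simp only [Category.comp_id]
  have hiso : IsIso φ := hφ.isIso
  let Φ : (Over.pullback p₀).obj JJ₀ ⟶ (Over.pullback p₀).obj J := hφ.toPT.hom
  have hΦ : Φ.left = φ := rfl
  have hinvhom : inv φ ≫ ((Over.pullback p₀).obj JJ₀).hom = ((Over.pullback p₀).obj J).hom := by
    rw [IsIso.inv_comp_eq]
    exact (Over.w Φ).symm
  let Ψ : (Over.pullback p₀).obj J ⟶ (Over.pullback p₀).obj JJ₀ := Over.homMk (inv φ) hinvhom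
  obtain ⟨a, ha⟩ := h₀.exists_map Φ hφact
  obtain ⟨b, hb'⟩ := h₀.exists_map Ψ (fun g => by
    change act p₀ σ₀ h₀.comp J g ≫ inv φ = inv φ ≫ act p₀ σ₀ h₀.comp JJ₀ g
    rw [IsIso.comp_inv_eq, Category.assoc, hφact, IsIso.inv_hom_id_assoc])
  have hab : a ≫ b = 𝟙 _ := by
    refine h₀.map_injective _ _ ?_
    rw [Functor.map_comp, ha, hb', CategoryTheory.Functor.map_id]
    ext1
    exact IsIso.hom_inv_id φ
  have hba : b ≫ a = 𝟙 _ := by
    refine h₀.map_injective _ _ ?_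
    rw [Functor.map_comp, ha, hb', CategoryTheory.Functor.map_id]
    ext1
    exact IsIso.inv_hom_id φ
  have hzer : zer JJ₀ ≫ a.left = zer J := by
    rw [← cancel_epi p₀]
    have e1 : φ ≫ pullback.fst J.hom p₀ = pullback.fst JJ₀.hom p₀ ≫ a.left := by
      rw [← map_left_fst, ha, hΦ]
    rw [← Category.assoc, ← (cp_bc p₀ JJ₀).zero, Category.assoc, ← e1, ← Category.assoc, hφ.zero, Category.id_comp,
      (cp_bc p₀ J).zero]
  have hmon : IsMonHom a := by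
    refine K448.PointedHom.isMonHom_of_pointed a ?_
    ext1
    exact hzer
  let e : JJ₀ ≅ J := ⟨a, b, hab, hba⟩
  have : IsMonHom e.hom := hmon
  exact ⟨Grp.mkIso' e⟩

end Compare

end K262.BA
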