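import Groth.Agent.EllLift.K262.Equiv
import Groth.Agent.Pi1.H383.GalPrinc
import Mathlib.AlgebraicGeometry.Sites.Fpqc
import Mathlib.AlgebraicGeometry.Gluing

/-!
# Descent of morphisms along Galois covers

`Gal p σ`: `p : T ⟶ S` is finite étale surjective and the endomorphisms `σ g` of `T / S` act transitively on the
geometric fibres.
-/

set_option autoImplicit false

universe u v

open CategoryTheory CategoryTheory.Limits MonoidalCategory CartesianMonoidalCategory MonObj GrpObj
  AlgebraicGeometry

namespace K262.GalD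

open Groth.Agent.Pi1.H416.PrincDesc

/-- Galois data. -/
structure Gal {T S : Scheme.{u}} (p : T ⟶ S) {G : Type v} (σ : G → (T ⟶ T)) : Prop where
  finite : IsFinite p
  etale : Etale p
  surj : Surjective p
  comp : ∀ g, σ g ≫ p = p
  trans : ∀ (Ω : Type u) [Field Ω] [IsAlgClosed Ω] (x y : Spec (CommRingCat.of Ω) ⟶ T), x ≫ p = y ≫ p →
    ∃ g, x ≫ σ g = y

/-- Base change of Galois data. -/
theorem Gal.bc {T S T' S' : Scheme.{u}} {p : T ⟶ S} {G : Type v} {σ : G → (T ⟶ T)} (h : Gal p σ)
    {a : T' ⟶ T} {p' : T' ⟶ S'} {b : S' ⟶ S} (sq : IsPullback a p' p b) (σ' : G → (T' ⟶ T'))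
    (h1 : ∀ g, σ' g ≫ a = a ≫ σ g) (h2 : ∀ g, σ' g ≫ p' = p') : Gal p' σ' where
  finite := MorphismProperty.of_isPullback sq h.finite
  etale := MorphismProperty.of_isPullback sq h.etale
  surj := MorphismProperty.of_isPullback sq h.surj
  comp := h2
  trans Ω _ _ x y hxy := by
    obtain ⟨g, hg⟩ := h.trans Ω (x ≫ a) (y ≫ a) (by
      rw [Category.assoc, Category.assoc, sq.w, ← Category.assoc, hxy, Category.assoc])
    refine ⟨g, sq.hom_ext ?_ ?_⟩
    · rw [Category.assoc, h1, ← Category.assoc, hg]
    · rw [Category.assoc, h2, hxy]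

/-- Morphisms with the same image in `S` are identified by invariant morphisms. -/
theorem Gal.comp_eq {T S : Scheme.{u}} {p : T ⟶ S} {G : Type v} {σ : G → (T ⟶ T)} (h : Gal p σ) {Z : Scheme.{u}}
    (v : T ⟶ Z) (hv : ∀ g, σ g ≫ v = v) {W : Scheme.{u}} (a b : W ⟶ T) (hab : a ≫ p = b ≫ p) : a ≫ v = b ≫ v := by
  have hf := h.finite
  have he := h.etale
  refine Scheme.hom_ext_of_forall _ _ fun w => ?_
  obtain ⟨Ω, _, _, s, hs⟩ := exists_geomPt W w
  obtain ⟨g, hg⟩ := h.trans Ω (s ≫ a) (s ≫ b) (by rw [Category.assoc, Category.assoc, hab])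
  have h1 := isOpenImmersion_graph p (σ g) (h.comp g)
  let O : W.Opens := pullback.lift a b hab ⁻¹ᵁ (graph p (σ g) (h.comp g)).opensRange
  have hl : s ≫ pullback.lift a b hab = (s ≫ a) ≫ graph p (σ g) (h.comp g) := by
    refine pullback.hom_ext ?_ ?_
    · rw [Category.assoc, pullback.lift_fst, Category.assoc, graph_fst, Category.comp_id]
    · rw [Category.assoc, pullback.lift_snd, Category.assoc, graph_snd, hg]
  refine ⟨O, ?_, ?_⟩
  · have h2 : pullback.lift a b hab (s default) ∈ Set.range (graph p (σ g) (h.comp g)) := by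
      rw [← Scheme.Hom.comp_apply, hl, Scheme.Hom.comp_apply]
      exact ⟨_, rfl⟩
    rw [hs] at h2
    exact h2
  · let r : (O : Scheme.{u}) ⟶ T := IsOpenImmersion.lift (graph p (σ g) (h.comp g)) (O.ι ≫ pullback.lift a b hab) (by
      rintro _ ⟨z, rfl⟩
      have h3 : O.ι z ∈ O := by
        have : O.ι z ∈ Set.range O.ι := ⟨z, rfl⟩
        rwa [Scheme.Opens.range_ι] at this
      rw [Scheme.Hom.comp_apply]
      exact h3)
    have hr : r ≫ graph p (σ g) (h.comp g) = O.ι ≫ pullback.lift a b hab := IsOpenImmersion.lift_fac _ _ _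
    have hr1 : r = O.ι ≫ a := by
      have := congrArg (· ≫ pullback.fst p p) hr
      simpa only [Category.assoc, graph_fst, Category.comp_id, pullback.lift_fst] using this
    have hr2 : r ≫ σ g = O.ι ≫ b := by
      have := congrArg (· ≫ pullback.snd p p) hr
      simpa only [Category.assoc, graph_snd, pullback.lift_snd] using this
    rw [← Category.assoc, ← Category.assoc, ← hr2, ← hr1, Category.assoc, hv]

/-- Invariant morphisms descend. -/
theorem Gal.exists_desc {T S : Scheme.{u}} {p : T ⟶ S} {G : Type v} {σ : G → (T ⟶ T)} (h : Gal p σ) {Z : Scheme.{u}}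
    (v : T ⟶ Z) (hv : ∀ g, σ g ≫ v = v) : ∃ u : S ⟶ Z, p ≫ u = v := by
  have hf := h.finite
  have he := h.etale
  have hs := h.surj
  exact ⟨EffectiveEpi.desc p v fun {W} a b hab => h.comp_eq v hv a b hab, EffectiveEpi.fac p v _⟩

theorem Gal.epi {T S : Scheme.{u}} {p : T ⟶ S} {G : Type v} {σ : G → (T ⟶ T)} (h : Gal p σ) : Epi p := by
  have hf := h.finite
  have he := h.etale
  have hs := h.surj
  exact Flat.epi_of_flat_of_surjective p

section Pull

variable {T S : Scheme.{u}} (p : T ⟶ S) {G : Type v} (σ : G → (T ⟶ T)) (hσ : ∀ g, σ g ≫ p = p)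

/-- The action on the base change of an `S`-scheme. -/
noncomputable def act (A : Over S) (g : G) : ((Over.pullback p).obj A).left ⟶ ((Over.pullback p).obj A).left :=
  pullback.map A.hom p A.hom p (𝟙 A.left) (σ g) (𝟙 S) ((Category.comp_id _).trans (Category.id_comp _).symm)
    ((Category.comp_id _).trans (hσ g).symm)

@[reassoc (attr := simp)]
theorem act_fst (A : Over S) (g : G) : act p σ hσ A g ≫ pullback.fst A.hom p = pullback.fst A.hom p :=
  (pullback.lift_fst _ _ _).trans (Category.comp_id _)

@[reassoc (attr := simp)]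
theorem act_snd (A : Over S) (g : G) : act p σ hσ A g ≫ pullback.snd A.hom p = pullback.snd A.hom p ≫ σ g :=
  pullback.lift_snd _ _ _

@[reassoc]
theorem act_hom (A : Over S) (g : G) : act p σ hσ A g ≫ ((Over.pullback p).obj A).hom = ((Over.pullback p).obj A).hom ≫ σ g :=
  pullback.lift_snd _ _ _

variable {p σ} in
theorem Gal.gal_fst (h : Gal p σ) (A : Over S) : Gal (pullback.fst A.hom p) (act p σ h.comp A) :=
  h.bc (IsPullback.of_hasPullback A.hom p).flip _ (fun g => act_snd p σ h.comp A g) (fun g => act_fst p σ h.comp A g)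

@[reassoc]
theorem map_left_fst {A B : Over S} (u : A ⟶ B) :
    ((Over.pullback p).map u).left ≫ pullback.fst B.hom p = pullback.fst A.hom p ≫ u.left :=
  pullback.lift_fst _ _ _

@[reassoc]
theorem map_left_snd {A B : Over S} (u : A ⟶ B) :
    ((Over.pullback p).map u).left ≫ pullback.snd B.hom p = pullback.snd A.hom p :=
  pullback.lift_snd _ _ _

@[reassoc]
theorem act_map {A B : Over S} (u : A ⟶ B) (g : G) :
    act p σ hσ A g ≫ ((Over.pullback p).map u).left = ((Over.pullback p).map u).left ≫ act p σ hσ B g := by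
  refine pullback.hom_ext ?_ ?_
  · rw [Category.assoc, map_left_fst, act_fst_assoc, Category.assoc, act_fst, map_left_fst]
  · rw [Category.assoc, map_left_snd, act_snd, Category.assoc, act_snd, map_left_snd_assoc]

variable {p σ} in
/-- Base change is faithful. -/
theorem Gal.map_injective (h : Gal p σ) {A B : Over S} (u v : A ⟶ B)
    (huv : (Over.pullback p).map u = (Over.pullback p).map v) : u = v := by
  have h1 := (h.gal_fst A).epi
  ext1
  rw [← cancel_epi (pullback.fst A.hom p), ← map_left_fst, ← map_left_fst, huv]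

variable {p σ} in
/-- Equivariant morphisms of base changes descend. -/
theorem Gal.exists_map (h : Gal p σ) {A B : Over S} (v : (Over.pullback p).obj A ⟶ (Over.pullback p).obj B)
    (hv : ∀ g, act p σ h.comp A g ≫ v.left = v.left ≫ act p σ h.comp B g) :
    ∃ u : A ⟶ B, (Over.pullback p).map u = v := by
  have h1 := (h.gal_fst A).epi
  have hvs : v.left ≫ pullback.snd B.hom p = pullback.snd A.hom p := Over.w v
  obtain ⟨u, hu⟩ := (h.gal_fst A).exists_desc (v.left ≫ pullback.fst B.hom p) (fun g => by
    have := congrArg (· ≫ pullback.fst B.hom p) (hv g)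
    simpa only [Category.assoc, act_fst] using this)
  have hw : u ≫ B.hom = A.hom := by
    rw [← cancel_epi (pullback.fst A.hom p), ← Category.assoc, hu, Category.assoc, pullback.condition,
      ← Category.assoc, hvs, pullback.condition]
  refine ⟨Over.homMk u hw, ?_⟩
  ext1
  refine pullback.hom_ext ?_ ?_
  · rw [map_left_fst]
    exact hu
  · rw [map_left_snd]
    exact hvs.symm

end Pull

end K262.GalD
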