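import Groth.Agent.EllLift.K262.Split

/-!
# Group actions and constancy

If `q : A ⟶ E` is cartesian over `f : T ⟶ B` with `T` connected and `f` split, a group acting on `A / T` by pointed
cartesian morphisms over automorphisms of `T / B` acts on `E` such that `q` is equivariant.
-/

set_option autoImplicit false

universe u v

open CategoryTheory CategoryTheory.Limits MonoidalCategory CartesianMonoidalCategory MonObj GrpObj
  AlgebraicGeometry

namespace K262.EllSplit

open K262.EllPtd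

/-- The morphism of base changes induced by a homomorphism over the identity and an endomorphism of the base. -/
theorem pt_map {T T' B : Scheme.{u}} (φ : T ⟶ B) (φ' : T' ⟶ B) {J J' : Over B} [GrpObj J] [GrpObj J'] (r : J.left ⟶ J'.left)
    (hr : PT (𝟙 B) J J' r) (g : T ⟶ T') (h1 : J.hom ≫ 𝟙 B = r ≫ J'.hom) (h2 : φ ≫ 𝟙 B = g ≫ φ') :
    PT g (Red.bc φ J) (Red.bc φ' J') (pullback.map J.hom φ J'.hom φ' r g (𝟙 B) h1 h2) where
  w := pullback.lift_snd _ _ _
  zero := by
    refine pullback.hom_ext ?_ ?_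
    · rw [Category.assoc, pullback.lift_fst, zer_bc_fst_assoc, hr.zero, Category.id_comp, Category.assoc,
        zer_bc_fst, ← Category.assoc, ← h2, Category.comp_id]
    · rw [Category.assoc, pullback.lift_snd, zer_bc_snd_assoc, Category.assoc, zer_bc_snd, Category.comp_id]

theorem cp_map {T T' B : Scheme.{u}} (φ : T ⟶ B) (φ' : T' ⟶ B) {J J' : Over B} [GrpObj J] [GrpObj J'] (r : J.left ⟶ J'.left)
    (hr : CP (𝟙 B) J J' r) (g : T ⟶ T') (h1 : J.hom ≫ 𝟙 B = r ≫ J'.hom) (h2 : φ ≫ 𝟙 B = g ≫ φ') :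
    CP g (Red.bc φ J) (Red.bc φ' J') (pullback.map J.hom φ J'.hom φ' r g (𝟙 B) h1 h2) where
  toPT := pt_map φ φ' r hr.toPT g h1 h2
  isPullback := by
    have e : pullback.map J.hom φ J'.hom φ' r g (𝟙 B) h1 h2 =
        (cp_bc φ' J').lift g (((cp_bc φ J).comp hr).toPT.congr h2) := by
      refine pullback.hom_ext ?_ ?_
      · rw [CP.lift_comp]; exact pullback.lift_fst _ _ _
      · exact (pullback.lift_snd _ _ _).trans (CP.lift_hom (A := Red.bc φ J) (cp_bc φ' J') g
          (((cp_bc φ J).comp hr).toPT.congr h2)).symm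
    rw [e]
    exact ((cp_bc φ' J').cp_lift g (((cp_bc φ J).comp hr).congr h2)).isPullback

/-- A cartesian pointed morphism gives an isomorphism of group schemes to the base change. -/
noncomputable def CP.iso {T B : Scheme.{u}} {f : T ⟶ B} {A : Over T} {E : Over B} [GrpObj A] [GrpObj E]
    [AbS A] [AbS E] {q : A.left ⟶ E.left} (h : CP f A E q) : Grp.mk A ≅ Grp.mk (Red.bc f E) :=
  have h1 : IsIso (toBc f q h.w).left := by
    have h2 : (toBc f q h.w).left = h.isPullback.isoPullback.hom := by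
      refine pullback.hom_ext ?_ ?_
      · rw [toBc_left_fst, IsPullback.isoPullback_hom_fst]
      · rw [toBc_left_snd, IsPullback.isoPullback_hom_snd]
    rw [h2]
    infer_instance
  have h1' : IsIso ((Over.forget T).map (toBc f q h.w)) := h1
  have h3 : IsIso (toBc f q h.w) := isIso_of_reflects_iso (toBc f q h.w) (Over.forget T)
  have h4 : IsMonHom (asIso (toBc f q h.w)).hom := isMonHom_toBc f q h.w h.zero
  Grp.mkIso' (asIso (toBc f q h.w))

@[reassoc (attr := simp)]
theorem CP.iso_hom_fst {T B : Scheme.{u}} {f : T ⟶ B} {A : Over T} {E : Over B} [GrpObj A] [GrpObj E]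
    [AbS A] [AbS E] {q : A.left ⟶ E.left} (h : CP f A E q) :
    h.iso.hom.hom.hom.left ≫ pullback.fst E.hom f = q := toBc_left_fst f q h.w

@[reassoc (attr := simp)]
theorem CP.iso_hom_snd {T B : Scheme.{u}} {f : T ⟶ B} {A : Over T} {E : Over B} [GrpObj A] [GrpObj E]
    [AbS A] [AbS E] {q : A.left ⟶ E.left} (h : CP f A E q) :
    h.iso.hom.hom.hom.left ≫ pullback.snd E.hom f = A.hom := toBc_left_snd f q h.w

/-- The induced action on the model `E`. -/
theorem CP.exists_action {T B : Scheme.{u}} [ConnectedSpace T] [Nonempty B] {f : T ⟶ B} {A : Over T} {E : Over B}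
    [GrpObj A] [GrpObj E] [AbS A] [AbS E] {q : A.left ⟶ E.left} (h : CP f A E q) (a : B ⟶ T) [IsClosedImmersion a]
    (ha : a ≫ f = 𝟙 B) {G : Type v} [Group G] (σ : G → (T ⟶ T)) (hσf : ∀ g, σ g ≫ f = f)
    (γ : G → (A.left ⟶ A.left)) (hγ : ∀ g, PT (σ g) A A (γ g)) (hγ1 : γ 1 = 𝟙 _)
    (hγm : ∀ g g', γ (g * g') = γ g' ≫ γ g) :
    ∃ ρ : G →* Aut (Grp.mk E), ∀ g, γ g ≫ q = q ≫ (ρ g).hom.hom.hom.left := by
  have h1 : ∀ g, PT (f ≫ 𝟙 B) A E (γ g ≫ q) := fun g =>
    ((hγ g).comp h.toPT).congr (by rw [hσf, Category.comp_id])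
  let r : G → (E.left ⟶ E.left) := fun g => h.sec a ha ≫ γ g ≫ q
  have hr : ∀ g, γ g ≫ q = q ≫ r g := fun g => h.const a ha (h1 g)
  have hpt : ∀ g, PT (𝟙 B) E E (r g) := fun g => h.pt_sec_comp a ha (h1 g)
  have hr1 : r 1 = 𝟙 _ := by
    refine h.cancel _ _ ⟨a, ha⟩ ?_
    rw [← hr, hγ1, Category.id_comp, Category.comp_id]
  have hrm : ∀ g g', r (g * g') = r g' ≫ r g := fun g g' => by
    refine h.cancel _ _ ⟨a, ha⟩ ?_
    rw [← hr, hγm, Category.assoc, hr, ← Category.assoc, hr, Category.assoc]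
  let R : G → (Grp.mk E ⟶ Grp.mk E) := fun g =>
    have := (hpt g).isMonHom
    Grp.ofHom (hpt g).hom
  have hR1 : R 1 = 𝟙 _ := by
    apply Grp.hom_ext
    ext1
    exact hr1
  have hRm : ∀ g g', R (g * g') = R g' ≫ R g := fun g g' => by
    apply Grp.hom_ext
    ext1
    exact hrm g g'
  refine ⟨{ toFun := fun g => ⟨R g, R g⁻¹, ?_, ?_⟩, map_one' := ?_, map_mul' := fun g g' => ?_ }, fun g => hr g⟩
  · rw [← hRm, inv_mul_cancel, hR1]
  · rw [← hRm, mul_inv_cancel, hR1]
  · ext1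
    exact hR1
  · ext1
    exact hRm g g'

end K262.EllSplit
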