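import Groth.Agent.EllLift.K262.Desc
import Groth.Agent.S0294

/-!
# Galois covers give Galois data
-/

set_option autoImplicit false

universe u v

open CategoryTheory CategoryTheory.Limits AlgebraicGeometry

namespace K262.GalD

open Groth.Agent.Pi1.H383.GalPrinc Groth.Agent.Pi1.H416.PrincDesc

variable {S : Scheme.{u}} [ConnectedSpace S] (S' : FEt.Cat S)

omit [ConnectedSpace S] in
theorem finite_aut [ConnectedSpace S'.left] : Finite (Aut S') := by
  obtain ⟨x⟩ : Nonempty S'.left := inferInstance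
  obtain ⟨Ω, _, _, s, -⟩ := exists_geomPt S'.left x
  have hf : Finite (FEt.fiberObj (s ≫ S'.hom) S') := Groth.Agent.S0294.result (s ≫ S'.hom) S'
  refine @Finite.of_injective (Aut S') (FEt.fiberObj (s ≫ S'.hom) S') hf
    (fun g : Aut S' => (FEt.fiber (s ≫ S'.hom)).map g.hom ⟨s, rfl⟩) fun g g' hg => ?_
  exact Iso.ext (hom_ext_of_point S' g.hom g'.hom s (congrArg Subtype.val hg))

theorem gal_of_isGaloisCover (h : PiSp.IsGaloisCover S') :
    Gal (S'.hom : S'.left ⟶ S) (fun g : Aut S' => g.hom.hom.left) := by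
  have hc : ConnectedSpace S'.left := h.1
  refine ⟨S'.prop.1, S'.prop.2, ⟨surjective_of_nonempty S'⟩, fun g => Over.w g.hom.hom, ?_⟩
  intro Ω _ _ x y hxy
  obtain ⟨g, hg⟩ := h.2 Ω (x ≫ S'.hom) ⟨x, rfl⟩ ⟨y, hxy.symm⟩
  exact ⟨g, congrArg Subtype.val hg⟩

omit [ConnectedSpace S] in
theorem free_of_connected [ConnectedSpace S'.left] (K : Type u) [Field K] (y : Spec (CommRingCat.of K) ⟶ S'.left)
    (g : Aut S') (h : y ≫ g.hom.hom.left = y) : g = 1 :=
  Iso.ext (hom_ext_of_point S' g.hom (𝟙 S') y (h.trans (Category.comp_id y).symm))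

end K262.GalD
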