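import Groth.Agent.EllLift.K262.Ptd
import Groth.Agent.Ega1.GenPts
import Groth.Agent.VarietyA.RegSmoothSch
import Groth.Agent.S0558
import Groth.Agent.S1561
import Groth.Agent.Curves.K320.CurvePts
import Mathlib.AlgebraicGeometry.Morphisms.SmoothFiber
import Mathlib.RingTheory.HopkinsLevitzki

/-!
# Smooth proper schemes over an Artinian local ring with algebraically closed residue field

`K262.EllGeom.res Λ : Spec k ⟶ Spec Λ` is the inclusion of the closed point; morphisms from spectra of fields factor
through it, a flat morphism of finite type with smooth special fibre is smooth, smooth morphisms have sections, and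
the special fibre of a connected smooth `Λ`-scheme is integral.
-/

set_option autoImplicit false

universe u

open CategoryTheory CategoryTheory.Limits MonoidalCategory CartesianMonoidalCategory MonObj GrpObj
  AlgebraicGeometry

namespace K262.EllGeom

variable (Λ : Type u) [CommRing Λ] [IsLocalRing Λ]

/-- The inclusion of the closed point. -/
noncomputable abbrev res : Spec (CommRingCat.of (IsLocalRing.ResidueField Λ)) ⟶ Spec (CommRingCat.of Λ) :=
  Spec.map (CommRingCat.ofHom (IsLocalRing.residue Λ))

instance isClosedImmersion_res : IsClosedImmersion (res Λ) :=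
  IsClosedImmersion.spec_of_surjective _ IsLocalRing.residue_surjective

variable [IsArtinianRing Λ]

instance subsingleton_spec : Subsingleton (Spec (CommRingCat.of Λ)) :=
  inferInstanceAs (Subsingleton (PrimeSpectrum Λ))

instance surjective_res : Surjective (res Λ) :=
  ⟨fun _ => ⟨IsLocalRing.closedPoint _, Subsingleton.elim _ _⟩⟩

theorem isNilpotent_ker : IsNilpotent (RingHom.ker (IsLocalRing.residue Λ)) := by
  rw [IsLocalRing.ker_residue]
  exact (isArtinianRing_iff_isNilpotent_maximalIdeal Λ).mp inferInstance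

variable {Λ}

/-- Points with values in a field factor through the closed point. -/
theorem exists_fac {Ω : Type u} [Field Ω] (t : Spec (CommRingCat.of Ω) ⟶ Spec (CommRingCat.of Λ)) :
    ∃ t' : Spec (CommRingCat.of Ω) ⟶ Spec (CommRingCat.of (IsLocalRing.ResidueField Λ)), t' ≫ res Λ = t := by
  let φ : Λ →+* Ω := (Spec.preimage t).hom
  have hφ : IsLocalHom φ := ⟨fun a ha => by
    by_contra h
    have h1 : IsNilpotent a := Ring.KrullDimLE.isNilpotent_iff_mem_maximalIdeal.mpr h
    exact (h1.map φ).eq_zero ▸ ha |>.ne_zero rfl⟩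
  refine ⟨Spec.map (CommRingCat.ofHom (IsLocalRing.ResidueField.lift φ)), ?_⟩
  rw [res, ← Spec.map_comp, ← CommRingCat.ofHom_comp, IsLocalRing.ResidueField.lift_comp_residue]
  exact Spec.map_preimage t

/-- A flat morphism of finite type to `Spec Λ` with smooth special fibre is smooth. -/
theorem smooth_of_fibre {S S₀ : Scheme.{u}} (f : S ⟶ Spec (CommRingCat.of Λ)) [LocallyOfFiniteType f] [Flat f]
    (i : S₀ ⟶ S) (f₀ : S₀ ⟶ Spec (CommRingCat.of (IsLocalRing.ResidueField Λ))) (hsq : IsPullback i f₀ f (res Λ))
    [Smooth f₀] : Smooth f := by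
  have h1 : LocallyOfFinitePresentation f :=
    LocallyOfFinitePresentation.iff_locallyOfFiniteType.mpr inferInstance
  refine Smooth.of_smooth_fiberToSpecResidueField f fun y => ?_
  obtain ⟨t, ht⟩ : ∃ t : Spec ((Spec (CommRingCat.of Λ)).residueField y) ⟶
      Spec (CommRingCat.of (IsLocalRing.ResidueField Λ)),
      t ≫ res Λ = (Spec (CommRingCat.of Λ)).fromSpecResidueField y :=
    exists_fac (Ω := (Spec (CommRingCat.of Λ)).residueField y) ((Spec (CommRingCat.of Λ)).fromSpecResidueField y)
  have h2 : IsPullback (f.fiberι y) (f.fiberToSpecResidueField y) f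
      ((Spec (CommRingCat.of Λ)).fromSpecResidueField y) := IsPullback.of_hasPullback _ _
  let p : f.fiber y ⟶ S₀ := hsq.lift (f.fiberι y) (f.fiberToSpecResidueField y ≫ t) (by
    rw [Category.assoc]
    exact h2.w.trans (congrArg (fun m => f.fiberToSpecResidueField y ≫ m) ht.symm))
  have h3 : IsPullback p (f.fiberToSpecResidueField y) f₀ t := by
    refine IsPullback.of_right ?_ (hsq.lift_snd _ _ _) hsq
    have e1 : p ≫ i = f.fiberι y := hsq.lift_fst _ _ _
    exact h2.of_iso (Iso.refl _) (Iso.refl _) (Iso.refl _) (Iso.refl _) (by simpa using e1.symm) (by simp)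
      (by simp) (by simpa using ht.symm)
  exact MorphismProperty.of_isPullback h3 ‹_›

/-- Regular schemes of finite type over an algebraically closed field are smooth. -/
theorem smooth_of_regular {k : Type u} [Field k] [IsAlgClosed k] {X : Scheme.{u}} (f : X ⟶ Spec (CommRingCat.of k))
    [LocallyOfFiniteType f] (h : ∀ x : X, IsRegularLocalRing (X.presheaf.stalk x)) : Smooth f := by
  let _ : X.Over (Spec (CommRingCat.of k)) := ⟨f⟩
  have h1 : LocallyOfFinitePresentation (X ↘ (Spec (CommRingCat.of k))) :=
    LocallyOfFinitePresentation.iff_locallyOfFiniteType.mpr ‹_›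
  have h2 : IsReduced X := by
    have : ∀ x : X, _root_.IsReduced (X.presheaf.stalk x) := fun x => by
      have := h x
      have := Groth.Agent.S0558.result (X.presheaf.stalk x)
      infer_instance
    exact isReduced_of_isReduced_stalk X
  have h3 := (Groth.Agent.S1561.result k X).1
  have h4 : (X ↘ (Spec (CommRingCat.of k))).smoothLocus = ⊤ := by
    ext x
    simp only [TopologicalSpace.Opens.coe_top, Set.mem_univ, iff_true]
    exact (h3 x).mpr (h x)
  exact Scheme.Hom.smoothLocus_eq_top_iff.mp h4

/-- A connected smooth scheme over a field is integral. -/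
theorem isIntegral_of_smooth {k : Type u} [Field k] {P : Scheme.{u}} (q : P ⟶ Spec (CommRingCat.of k)) [Smooth q]
    [ConnectedSpace P] : IsIntegral P := by
  have : IsLocallyNoetherian P := LocallyOfFiniteType.isLocallyNoetherian q
  rw [Groth.Agent.Ega1.GenPts.isIntegral_iff]
  refine ⟨inferInstance, fun x => ?_⟩
  have := Groth.Agent.VarietyA.RegSmoothSch.isRegularLocalRing_stalk_of_mem_smoothLocus q x
    (by rw [q.smoothLocus_eq_top]; trivial)
  exact Groth.Agent.S0558.result _

/-- Lifting a section of a smooth morphism to a spectrum of a ring over a nilpotent ideal, the closed part being one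
point (after `K819.SectLift.exists_section`). -/
theorem exists_section_of_nilpotent {R K : CommRingCat.{u}} (r : R ⟶ K) (hr : Function.Surjective r.hom)
    (hn : IsNilpotent (RingHom.ker r.hom)) [Subsingleton (Spec K)] [Nonempty (Spec K)] {Y : Scheme.{u}}
    (f : Y ⟶ Spec R) [Smooth f] (s : Spec K ⟶ Y) (hs : s ≫ f = Spec.map r) :
    ∃ σ : Spec R ⟶ Y, σ ≫ f = 𝟙 _ ∧ Spec.map r ≫ σ = s := by
  obtain ⟨z⟩ := ‹Nonempty (Spec K)›
  obtain ⟨U, hU, hzU, -⟩ := exists_isAffineOpen_mem_and_subset (X := Y) (x := s z) (U := ⊤) trivial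
  let B := Γ(Y, U)
  let φ : R ⟶ B := Spec.preimage (hU.fromSpec ≫ f)
  have hφ : Spec.map φ = hU.fromSpec ≫ f := Spec.map_preimage _
  have hsm : Smooth (Spec.map φ) := by rw [hφ]; infer_instance
  have hsm' : φ.hom.Smooth := (HasRingHomProperty.Spec_iff (P := @Smooth)).1 hsm
  have hrange : Set.range s ⊆ Set.range hU.fromSpec := by
    rintro _ ⟨w, rfl⟩
    rw [Subsingleton.elim w z, hU.range_fromSpec]
    exact hzU
  let t : Spec K ⟶ Spec B := IsOpenImmersion.lift hU.fromSpec s hrange
  have ht : t ≫ hU.fromSpec = s := IsOpenImmersion.lift_fac _ _ _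
  let ψ : B ⟶ K := Spec.preimage t
  have hψ : Spec.map ψ = t := Spec.map_preimage _
  have hc : φ ≫ ψ = r := by
    apply Spec.map_injective
    rw [Spec.map_comp, hψ, hφ, ← Category.assoc, ht, hs]
  algebraize [φ.hom, r.hom]
  have : Algebra.FormallySmooth R B := inferInstance
  let g : R →ₐ[R] K := Algebra.ofId R K
  let ψ' : B →ₐ[R] K := { ψ.hom with commutes' := fun a => congrArg (fun q => q.hom a) hc }
  let v := Algebra.FormallySmooth.liftOfSurjective ψ' g hr hn
  let v' : B ⟶ R := CommRingCat.ofHom v.toRingHom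
  have hv1 : φ ≫ v' = 𝟙 R := by
    ext a
    exact v.commutes a
  have hv2 : v' ≫ r = ψ := by
    ext b
    exact Algebra.FormallySmooth.liftOfSurjective_apply ψ' g hr hn b
  refine ⟨Spec.map v' ≫ hU.fromSpec, ?_, ?_⟩
  · rw [Category.assoc, ← hφ, ← Spec.map_comp, hv1, Spec.map_id]
  · rw [← Category.assoc, ← Spec.map_comp, hv2, hψ, ht]

variable [IsAlgClosed (IsLocalRing.ResidueField Λ)]

/-- A nonempty smooth scheme over `Λ` has a section through a rational point of the special fibre. -/
theorem exists_section {Y : Scheme.{u}} [Nonempty Y] (f : Y ⟶ Spec (CommRingCat.of Λ)) [Smooth f] :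
    ∃ a : Spec (CommRingCat.of Λ) ⟶ Y, a ≫ f = 𝟙 _ := by
  have h1 : Nonempty (pullback f (res Λ) :) := by
    obtain ⟨y⟩ := ‹Nonempty Y›
    have h2 : Surjective (pullback.fst f (res Λ)) := inferInstance
    obtain ⟨z, -⟩ := h2.surj y
    exact ⟨z⟩
  obtain ⟨s, hs⟩ := K320.CurvePts.exists_section (pullback.snd f (res Λ))
  obtain ⟨a, ha, -⟩ := exists_section_of_nilpotent (CommRingCat.ofHom (IsLocalRing.residue Λ))
    IsLocalRing.residue_surjective (isNilpotent_ker Λ) f (s ≫ pullback.fst f (res Λ)) (by
      rw [Category.assoc, pullback.condition, ← Category.assoc, hs, Category.id_comp])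
  exact ⟨a, ha⟩

omit [IsAlgClosed (IsLocalRing.ResidueField Λ)] in
theorem connectedSpace_fibre {S S₀ : Scheme.{u}} [ConnectedSpace S] (f : S ⟶ Spec (CommRingCat.of Λ))
    (i : S₀ ⟶ S) (f₀ : S₀ ⟶ Spec (CommRingCat.of (IsLocalRing.ResidueField Λ))) (hsq : IsPullback i f₀ f (res Λ)) :
    ConnectedSpace S₀ := by
  have h1 : IsClosedImmersion i := MorphismProperty.of_isPullback hsq.flip inferInstance
  have h2 : Surjective i := MorphismProperty.of_isPullback hsq.flip inferInstance
  have h3 : IsHomeomorph i := (isHomeomorph_iff_isEmbedding_surjective).mpr ⟨i.isClosedEmbedding.isEmbedding, h2.surj⟩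
  exact (h3.homeomorph).symm.surjective.connectedSpace (h3.homeomorph).symm.continuous

end K262.EllGeom
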