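import Groth.Agent.EllLift.K262.Desc
import Groth.Agent.Sga3B.DSPts
import Groth.Agent.S0086
import Groth.Agent.Flat2G.ProperDim

/-!
# Points of pointed morphisms, and descent of group structures along Galois covers
-/

set_option autoImplicit false

universe u v

open CategoryTheory CategoryTheory.Limits MonoidalCategory CartesianMonoidalCategory MonObj GrpObj
  AlgebraicGeometry

namespace K262.EllSplit

open K262.EllPtd Groth.Agent.Sga3B.DSPts

section Pt

variable {T B : Scheme.{u}} {f : T ⟶ B} {A : Over T} {E : Over B} [GrpObj A] [GrpObj E] {v : A.left ⟶ E.left}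

/-- The effect of a pointed morphism on points. -/
noncomputable def PT.pt (h : PT f A E v) {U : Over T} (x : U ⟶ A) : (Over.map f).obj U ⟶ E :=
  Over.homMk (x.left ≫ v) (by
    rw [Category.assoc, h.w, ← Category.assoc, Over.w x]
    rfl)

@[simp]
theorem PT.pt_left (h : PT f A E v) {U : Over T} (x : U ⟶ A) : (h.pt x).left = x.left ≫ v := rfl

theorem PT.pt_eq (h : PT f A E v) {U : Over T} (x : U ⟶ A) :
    h.pt x = (bcEquiv f U E).symm (x ≫ toBc f v h.w) := by
  ext1
  rw [bcEquiv_symm_left, Over.comp_left, Category.assoc, toBc_left_fst]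
  rfl

variable [AbS A] [AbS E]

theorem PT.pt_mul (h : PT f A E v) {U : Over T} (x y : U ⟶ A) : h.pt (x * y) = h.pt x * h.pt y := by
  have := isMonHom_toBc f v h.w h.zero
  rw [h.pt_eq, h.pt_eq, h.pt_eq, MonObj.mul_comp, map_mul]

/-- The effect on points as a group homomorphism. -/
noncomputable def PT.ptHom (h : PT f A E v) (U : Over T) : (U ⟶ A) →* ((Over.map f).obj U ⟶ E) :=
  MonoidHom.mk' h.pt h.pt_mul

@[simp]
theorem PT.ptHom_apply (h : PT f A E v) {U : Over T} (x : U ⟶ A) : h.ptHom U x = h.pt x := rfl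

/-- For a cartesian pointed morphism the points are the same. -/
theorem CP.pt_bijective (h : CP f A E v) (U : Over T) : Function.Bijective (h.toPT.ptHom U) := by
  constructor
  · intro x y hxy
    have h1 : x.left ≫ v = y.left ≫ v := congrArg CommaMorphism.left hxy
    ext1
    exact h.isPullback.hom_ext h1 (by rw [Over.w, Over.w])
  · intro z
    have hz : z.left ≫ E.hom = U.hom ≫ f := Over.w z
    refine ⟨Over.homMk (h.isPullback.lift z.left U.hom hz) (h.isPullback.lift_snd _ _ _), ?_⟩
    ext1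
    exact h.isPullback.lift_fst _ _ _

end Pt

end K262.EllSplit

namespace K262.GalD

open K262.EllPtd K262.EllSplit

section Equiv

variable {T S : Scheme.{u}} {p : T ⟶ S} {G : Type v} {σ : G → (T ⟶ T)} (h : Gal p σ) {N : Over S}
  [GrpObj ((Over.pullback p).obj N)] [AbS ((Over.pullback p).obj N)]
  (hN : ∀ g, PT (σ g) ((Over.pullback p).obj N) ((Over.pullback p).obj N) (act p σ h.comp N g))

/-- Equivariance of a morphism between base changes. -/
def Eqv {A B : Over S} (v : (Over.pullback p).obj A ⟶ (Over.pullback p).obj B) : Prop :=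
  ∀ g, act p σ h.comp A g ≫ v.left = v.left ≫ act p σ h.comp B g

/-- The automorphism as a point. -/
noncomputable def apt (A : Over S) (g : G) : (Over.map (σ g)).obj ((Over.pullback p).obj A) ⟶ (Over.pullback p).obj A :=
  Over.homMk (act p σ h.comp A g) (act_hom p σ h.comp A g)

omit [AbS ((Over.pullback p).obj N)] in
theorem eqv_iff {A : Over S} (v : (Over.pullback p).obj A ⟶ (Over.pullback p).obj N) :
    Eqv h v ↔ ∀ g, apt h A g ≫ v = (hN g).pt v := by
  refine forall_congr' fun g => ⟨fun hg => ?_, fun hg => ?_⟩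
  · ext1
    exact hg
  · exact congrArg CommaMorphism.left hg

include hN in
theorem Eqv.mul {A : Over S} {x y : (Over.pullback p).obj A ⟶ (Over.pullback p).obj N} (hx : Eqv h x)
    (hy : Eqv h y) : Eqv h (x * y) := by
  rw [eqv_iff h hN] at hx hy ⊢
  intro g
  rw [MonObj.comp_mul, hx, hy, PT.pt_mul]

include hN in
theorem Eqv.one {A : Over S} : Eqv h (1 : (Over.pullback p).obj A ⟶ (Over.pullback p).obj N) := by
  rw [eqv_iff h hN]
  intro g
  rw [MonObj.comp_one]
  exact ((hN g).ptHom _).map_one.symm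

include hN in
theorem Eqv.inv {A : Over S} {x : (Over.pullback p).obj A ⟶ (Over.pullback p).obj N} (hx : Eqv h x) :
    Eqv h x⁻¹ := by
  rw [eqv_iff h hN] at hx ⊢
  intro g
  rw [GrpObj.comp_inv, hx]
  exact (((hN g).ptHom _).map_inv x).symm

theorem Eqv.map {A B : Over S} (u : A ⟶ B) : Eqv h ((Over.pullback p).map u) := fun g => act_map p σ h.comp u g

include hN in
/-- Descent of the group structure. -/
theorem exists_grpObj_aux : ∃ (_ : GrpObj N) (one : 𝟙_ (Over S) ⟶ N), η[N] = one ∧
    (Over.pullback p).map one = (1 : (Over.pullback p).obj (𝟙_ (Over S)) ⟶ (Over.pullback p).obj N) := by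
  obtain ⟨one, hone⟩ := h.exists_map (1 : (Over.pullback p).obj (𝟙_ (Over S)) ⟶ (Over.pullback p).obj N)
    (Eqv.one h hN)
  obtain ⟨mul, hmul⟩ := h.exists_map ((Over.pullback p).map (fst N N) * (Over.pullback p).map (snd N N))
    (Eqv.mul h hN (Eqv.map h _) (Eqv.map h _))
  obtain ⟨inv, hinv⟩ := h.exists_map ((𝟙 ((Over.pullback p).obj N))⁻¹)
    (Eqv.inv h hN (by
      have := Eqv.map h (𝟙 N)
      rwa [(Over.pullback p).map_id] at this))
  have hinj : ∀ {Y : Over S} (g g' : Y ⟶ N), (Over.pullback p).map g = (Over.pullback p).map g' → g = g' :=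
    fun g g' hg => h.map_injective g g' hg
  have key : ∀ {Y : Over S} (u v : Y ⟶ N), (Over.pullback p).map (lift u v ≫ mul) =
      (Over.pullback p).map u * (Over.pullback p).map v := by
    intro Y u v
    rw [Functor.map_comp, hmul, MonObj.comp_mul, ← Functor.map_comp, ← Functor.map_comp, lift_fst, lift_snd]
  have hone' : ∀ {Y : Over S} (t : Y ⟶ 𝟙_ (Over S)), (Over.pullback p).map (t ≫ one) =
      (1 : (Over.pullback p).obj Y ⟶ (Over.pullback p).obj N) := by
    intro Y t
    rw [Functor.map_comp, hone, MonObj.comp_one]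
  have hinv' : ∀ {Y : Over S} (t : Y ⟶ N), (Over.pullback p).map (t ≫ inv) =
      (((Over.pullback p).map t)⁻¹ : (Over.pullback p).obj Y ⟶ (Over.pullback p).obj N) := by
    intro Y t
    rw [Functor.map_comp, hinv, GrpObj.comp_inv, Category.comp_id]
  refine ⟨{ one := one, mul := mul, inv := inv, one_mul := ?_, mul_one := ?_, mul_assoc := ?_,
            left_inv := ?_, right_inv := ?_ }, one, rfl, hone⟩
  · apply hinj
    have : (one ▷ N) = lift (fst (𝟙_ (Over S)) N ≫ one) (snd (𝟙_ (Over S)) N) := by ext1 <;> simp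
    rw [this, key, hone', _root_.one_mul, leftUnitor_hom]
  · apply hinj
    have : (N ◁ one) = lift (fst N (𝟙_ (Over S))) (snd N (𝟙_ (Over S)) ≫ one) := by ext1 <;> simp
    rw [this, key, hone', _root_.mul_one, rightUnitor_hom]
  · apply hinj
    have e1 : (mul ▷ N) = lift (fst (N ⊗ N) N ≫ mul) (snd (N ⊗ N) N) := by ext1 <;> simp
    have e2 : (α_ N N N).hom ≫ N ◁ mul = lift (fst (N ⊗ N) N ≫ fst N N)
        (lift (fst (N ⊗ N) N ≫ snd N N) (snd (N ⊗ N) N) ≫ mul) := by
      ext1
      · simp
      · simp only [Category.assoc, whiskerLeft_snd, lift_snd]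
        rw [← Category.assoc]
        congr 1
        ext1 <;> simp
    rw [e1, key, ← Category.assoc, e2, key, key]
    have e3 : fst (N ⊗ N) N = lift (fst (N ⊗ N) N ≫ fst N N) (fst (N ⊗ N) N ≫ snd N N) := by
      ext1 <;> simp
    conv_lhs => rw [e3]
    rw [key, _root_.mul_assoc]
  · apply hinj
    have : inv = 𝟙 N ≫ inv := (Category.id_comp _).symm
    rw [key, hone', this, hinv', inv_mul_cancel]
  · apply hinj
    have : inv = 𝟙 N ≫ inv := (Category.id_comp _).symm
    rw [key, hone', this, hinv', mul_inv_cancel]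

include hN in
theorem exists_grpObj : ∃ (_ : GrpObj N), CP p ((Over.pullback p).obj N) N (pullback.fst N.hom p) := by
  obtain ⟨_, one, h1, h2⟩ := exists_grpObj_aux h hN
  refine ⟨inferInstance, ⟨⟨pullback.condition, ?_⟩, IsPullback.of_hasPullback _ _⟩⟩
  have h3 := congrArg (fun m => m.left ≫ pullback.fst N.hom p) h2
  have h4 : ((Over.pullback p).map one).left ≫ pullback.fst N.hom p =
      pullback.fst (𝟙_ (Over S)).hom p ≫ zer N := by
    rw [map_left_fst, ← h1]
    rfl
  have h5 : (1 : (Over.pullback p).obj (𝟙_ (Over S)) ⟶ (Over.pullback p).obj N).left =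
      pullback.snd (𝟙_ (Over S)).hom p ≫ zer ((Over.pullback p).obj N) := rfl
  have h6 : pullback.fst (𝟙_ (Over S)).hom p = pullback.snd (𝟙_ (Over S)).hom p ≫ p := by
    have : pullback.fst (𝟙_ (Over S)).hom p ≫ 𝟙 S = pullback.snd (𝟙_ (Over S)).hom p ≫ p := pullback.condition
    exact (Category.comp_id (pullback.fst (𝟙_ (Over S)).hom p)).symm.trans this
  have h7 : pullback.snd (𝟙_ (Over S)).hom p ≫ zer ((Over.pullback p).obj N) ≫ pullback.fst N.hom p =
      pullback.snd (𝟙_ (Over S)).hom p ≫ p ≫ zer N := by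
    rw [← Category.assoc, ← Category.assoc, ← h6, ← h4, ← h5]
    exact h3.symm
  have h8 : IsIso (pullback.snd (𝟙_ (Over S)).hom p) := by
    have : IsIso (𝟙_ (Over S)).hom := inferInstanceAs (IsIso (𝟙 S))
    infer_instance
  exact (cancel_epi (pullback.snd (𝟙_ (Over S)).hom p)).mp h7

end Equiv

/-- Descent of the group structure of an abelian scheme along a Galois cover. -/
theorem Gal.exists_cp {T S : Scheme.{u}} {p : T ⟶ S} {G : Type v} {σ : G → (T ⟶ T)} (h : Gal p σ) {N : Over S}
    (A : Over T) [GrpObj A] [AbS A] (q : A.left ⟶ N.left) (sq : IsPullback q A.hom N.hom p)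
    (γ : G → (A.left ⟶ A.left)) (hγq : ∀ g, γ g ≫ q = q) (hγ : ∀ g, PT (σ g) A A (γ g)) :
    ∃ (_ : GrpObj N), CP p A N q := by
  let e : A ≅ (Over.pullback p).obj N := Over.isoMk sq.isoPullback (sq.isoPullback_hom_snd)
  let inst : GrpObj ((Over.pullback p).obj N) := GrpObj.ofIso e
  have h1 : IsMonHom e.hom := CategoryTheory.isMonHom_ofIso e
  have hel : e.hom.left ≫ pullback.fst N.hom p = q := sq.isoPullback_hom_fst
  have hes : e.hom.left ≫ pullback.snd N.hom p = A.hom := sq.isoPullback_hom_snd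
  have hzer : zer A ≫ e.hom.left = zer ((Over.pullback p).obj N) :=
    congrArg CommaMorphism.left (IsMonHom.one_hom (f := e.hom))
  have h2 : AbS ((Over.pullback p).obj N) := by
    have e2 : ((Over.pullback p).obj N).hom = e.inv.left ≫ A.hom := (Over.w e.inv).symm
    have e3 : IsIso e.inv.left := inferInstanceAs (IsIso ((Over.forget T).map e.inv))
    have e4 : IsPullback e.inv.left ((Over.pullback p).obj N).hom A.hom (𝟙 T) :=
      IsPullback.of_horiz_isIso ⟨by rw [Category.comp_id]; exact Over.w e.inv⟩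
    exact ⟨MorphismProperty.of_isPullback e4 AbS.proper, MorphismProperty.of_isPullback e4 AbS.flat,
      MorphismProperty.of_isPullback e4 AbS.lfp, MorphismProperty.of_isPullback e4 AbS.red,
      MorphismProperty.of_isPullback e4 AbS.conn⟩
  have hact : ∀ g, e.hom.left ≫ act p σ h.comp N g = γ g ≫ e.hom.left := by
    intro g
    refine pullback.hom_ext ?_ ?_
    · rw [Category.assoc, act_fst, Category.assoc, hel, hγq]
    · rw [Category.assoc, act_snd, Category.assoc, hes, ← Category.assoc, hes, (hγ g).w]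
  have hN : ∀ g, PT (σ g) ((Over.pullback p).obj N) ((Over.pullback p).obj N) (act p σ h.comp N g) := fun g =>
    ⟨act_hom p σ h.comp N g, by
      rw [← hzer, Category.assoc, hact, ← Category.assoc, (hγ g).zero, Category.assoc]⟩
  obtain ⟨G', h3⟩ := exists_grpObj h hN
  refine ⟨G', ⟨⟨sq.w, ?_⟩, sq⟩⟩
  rw [← h3.zero, ← hzer, Category.assoc, hel]

end K262.GalD
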