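import Groth.Agent.EllLift.K262.GrpDesc
import Groth.Agent.Etbase.TopInv
import Groth.Agent.AbSch.K448.MulFibre
import Groth.Prelude.Def_AgPol

/-!
# Transport and lifting of level structures
-/

set_option autoImplicit false

universe u v

open CategoryTheory CategoryTheory.Limits MonoidalCategory CartesianMonoidalCategory MonObj GrpObj
  AlgebraicGeometry

namespace K262.Lvl

open K262.EllPtd K262.EllSplit

/-- The condition on a level structure at one geometric point. -/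
def LvlAt {T : Scheme.{u}} (A : Over T) [GrpObj A] (g n : ℕ) (σ : Fin (2 * g) → (𝟙_ (Over T) ⟶ A))
    {Ω : Type u} [Field Ω] (t : Spec (CommRingCat.of Ω) ⟶ T) : Prop :=
  (Subgroup.closure (Set.range fun i => toUnit (Over.mk t) ≫ σ i) : Set (Over.mk t ⟶ A)) =
      AgPol.torsSet A n (Over.mk t) ∧
    Nat.card (AgPol.torsSet A n (Over.mk t)) = n ^ (2 * g)

section

variable {T B : Scheme.{u}} {f : T ⟶ B} {A : Over T} {E : Over B} [GrpObj A] [GrpObj E] {q : A.left ⟶ E.left}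
  [AbS A] [AbS E]

/-- The bijection of points as a group isomorphism. -/
noncomputable def ptEquiv (h : CP f A E q) (U : Over T) : (U ⟶ A) ≃* ((Over.map f).obj U ⟶ E) :=
  MulEquiv.ofBijective (h.toPT.ptHom U) (h.pt_bijective U)

theorem ptEquiv_apply (h : CP f A E q) {U : Over T} (x : U ⟶ A) : ptEquiv h U x = h.toPT.pt x := rfl

theorem image_torsSet (h : CP f A E q) (n : ℕ) (U : Over T) :
    (ptEquiv h U) '' (AgPol.torsSet A n U) = AgPol.torsSet E n ((Over.map f).obj U) := by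
  ext y
  constructor
  · rintro ⟨x, hx, rfl⟩
    have hx : x ^ n = 1 := hx
    change (ptEquiv h U x) ^ n = 1
    rw [← map_pow, hx, map_one]
  · intro hy
    have hy : y ^ n = 1 := hy
    refine ⟨(ptEquiv h U).symm y, ?_, MulEquiv.apply_symm_apply _ _⟩
    change ((ptEquiv h U).symm y) ^ n = 1
    rw [← map_pow, hy, map_one]

theorem card_torsSet (h : CP f A E q) (n : ℕ) (U : Over T) :
    Nat.card (AgPol.torsSet A n U) = Nat.card (AgPol.torsSet E n ((Over.map f).obj U)) := by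
  rw [← image_torsSet h]
  exact Nat.card_congr ((ptEquiv h U).toEquiv.image _)

theorem pt_section (h : CP f A E q) (σ : 𝟙_ (Over T) ⟶ A) (τ : 𝟙_ (Over B) ⟶ E) (hστ : σ.left ≫ q = f ≫ τ.left)
    (U : Over T) : ptEquiv h U (toUnit U ≫ σ) = toUnit ((Over.map f).obj U) ≫ τ := by
  ext1
  have h1 : (toUnit U).left = U.hom := by
    have := Over.w (toUnit U)
    exact (Category.comp_id _).symm.trans this
  have h2 : (toUnit ((Over.map f).obj U)).left = U.hom ≫ f := by
    have := Over.w (toUnit ((Over.map f).obj U))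
    exact (Category.comp_id _).symm.trans this
  change ((toUnit U).left ≫ σ.left) ≫ q = (toUnit ((Over.map f).obj U)).left ≫ τ.left
  rw [Category.assoc, hστ, h1, h2]
  exact (Category.assoc _ _ _).symm

theorem lvlAt_iff (h : CP f A E q) (g n : ℕ) (σ : Fin (2 * g) → (𝟙_ (Over T) ⟶ A))
    (τ : Fin (2 * g) → (𝟙_ (Over B) ⟶ E)) (hστ : ∀ i, (σ i).left ≫ q = f ≫ (τ i).left)
    {Ω : Type u} [Field Ω] (t : Spec (CommRingCat.of Ω) ⟶ T) : LvlAt A g n σ t ↔ LvlAt E g n τ (t ≫ f) := by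
  have e1 : (ptEquiv h (Over.mk t)) '' (Subgroup.closure (Set.range fun i => toUnit (Over.mk t) ≫ σ i) :
      Set (Over.mk t ⟶ A)) = (Subgroup.closure (Set.range fun i => toUnit (Over.mk (t ≫ f)) ≫ τ i) :
        Set (Over.mk (t ≫ f) ⟶ E)) := by
    have e3 : (Subgroup.closure (Set.range fun i => toUnit (Over.mk t) ≫ σ i)).map
        (ptEquiv h (Over.mk t)).toMonoidHom =
        Subgroup.closure (Set.range fun i => toUnit ((Over.map f).obj (Over.mk t)) ≫ τ i) := by
      rw [MonoidHom.map_closure]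
      congr 1
      rw [← Set.range_comp]
      congr 1
      funext i
      exact pt_section h (σ i) (τ i) (hστ i) (Over.mk t)
    have e4 := congrArg (fun H : Subgroup ((Over.map f).obj (Over.mk t) ⟶ E) =>
      (H : Set ((Over.map f).obj (Over.mk t) ⟶ E))) e3
    exact e4
  have e2 := image_torsSet h n (Over.mk t)
  have e3 := card_torsSet h n (Over.mk t)
  constructor
  · rintro ⟨h1, h2⟩
    refine ⟨?_, e3.symm.trans h2⟩
    rw [← e1, h1]
    exact e2
  · rintro ⟨h1, h2⟩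
    refine ⟨?_, e3.trans h2⟩
    refine (ptEquiv h (Over.mk t)).injective.image_injective ?_
    rw [e1, h1]
    exact e2.symm

/-- Level structures pull back. -/
theorem exists_levelStr_of_cp (h : CP f A E q) (g n : ℕ) {τ : Fin (2 * g) → (𝟙_ (Over B) ⟶ E)}
    (hτ : AgPol.IsLevelStr E g n τ) : ∃ σ : Fin (2 * g) → (𝟙_ (Over T) ⟶ A), AgPol.IsLevelStr A g n σ := by
  have hw : ∀ i, (f ≫ (τ i).left) ≫ E.hom = 𝟙 T ≫ f := fun i => by
    have h1 : (τ i).left ≫ E.hom = 𝟙 B := Over.w (τ i)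
    rw [Category.assoc, h1, Category.comp_id, Category.id_comp]
  let σ : Fin (2 * g) → (𝟙_ (Over T) ⟶ A) := fun i =>
    Over.homMk (h.isPullback.lift (f ≫ (τ i).left) (𝟙 T) (hw i)) (h.isPullback.lift_snd _ _ _)
  have hσ : ∀ i, (σ i).left ≫ q = f ≫ (τ i).left := fun i => h.isPullback.lift_fst _ _ _
  refine ⟨σ, fun i => ?_, fun Ω _ _ t => (lvlAt_iff h g n σ τ hσ t).mpr (hτ.2 Ω (t ≫ f))⟩
  apply (ptEquiv h (𝟙_ (Over T))).injective
  have h1 := pt_section h (σ i) (τ i) (hσ i) (𝟙_ (Over T))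
  have h2 : toUnit (𝟙_ (Over T)) ≫ σ i = σ i := by
    rw [toUnit_unit, Category.id_comp]
  rw [h2] at h1
  rw [map_pow, h1, map_one, ← MonObj.comp_pow, hτ.1 i, MonObj.comp_one]

/-- Level structures lift along universal homeomorphisms if multiplication by `n` is étale. -/
theorem exists_levelStr_of_lift (h : CP f A E q) [UniversallyClosed f] [UniversallyInjective f] [Surjective f]
    (hgeom : ∀ (Ω : Type u) [Field Ω] [IsAlgClosed Ω] (t : Spec (CommRingCat.of Ω) ⟶ B), ∃ t₀, t₀ ≫ f = t)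
    (g n : ℕ) (hn : Etale (𝟙 E ^ n).left) {σ : Fin (2 * g) → (𝟙_ (Over T) ⟶ A)}
    (hσ : AgPol.IsLevelStr A g n σ) : ∃ τ : Fin (2 * g) → (𝟙_ (Over B) ⟶ E), AgPol.IsLevelStr E g n τ := by
  have key : ∀ i, ∃ φ : B ⟶ E.left, φ ≫ (𝟙 E ^ n).left = zer E ∧ f ≫ φ = (σ i).left ≫ q := by
    intro i
    refine Groth.Agent.Etbase.TopInv.exists_lift_of_univHomeo (𝟙 E ^ n).left (zer E) f ((σ i).left ≫ q) ?_
    have h1 : h.toPT.pt (σ i) ≫ 𝟙 E ^ n = 1 := by
      rw [MonObj.comp_pow, Category.comp_id]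
      have h2 := map_pow (h.toPT.ptHom (𝟙_ (Over T))) (σ i) n
      rw [hσ.1 i, map_one] at h2
      exact h2.symm
    have h2 := congrArg CommaMorphism.left h1
    have h3 : (1 : (Over.map f).obj (𝟙_ (Over T)) ⟶ E).left = f ≫ zer E := by
      have h4 : (1 : (Over.map f).obj (𝟙_ (Over T)) ⟶ E).left = (toUnit ((Over.map f).obj (𝟙_ (Over T)))).left ≫ zer E := rfl
      have h5 : (toUnit ((Over.map f).obj (𝟙_ (Over T)))).left = 𝟙 T ≫ f := by
        have := Over.w (toUnit ((Over.map f).obj (𝟙_ (Over T))))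
        exact (Category.comp_id _).symm.trans this
      rw [h4, h5, Category.id_comp]
    exact h2.trans h3
  choose φ hφ1 hφ2 using key
  have hπ : (𝟙 E ^ n).left ≫ E.hom = E.hom := Over.w (𝟙 E ^ n)
  let τ : Fin (2 * g) → (𝟙_ (Over B) ⟶ E) := fun i => Over.homMk (φ i) (by
    have h1 : φ i ≫ E.hom = 𝟙 B := by rw [← hπ, ← Category.assoc, hφ1, zer_hom]
    exact h1)
  have hτ : ∀ i, (σ i).left ≫ q = f ≫ (τ i).left := fun i => (hφ2 i).symm
  refine ⟨τ, fun i => ?_, fun Ω _ _ t => ?_⟩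
  · have h1 : τ i ≫ 𝟙 E ^ n = 1 := by
      ext1
      refine (hφ1 i).trans ?_
      have h4 : (1 : 𝟙_ (Over B) ⟶ E) = η[E] := by
        rw [Hom.one_def, toUnit_unit, Category.id_comp]
      rw [h4]
      rfl
    rwa [MonObj.comp_pow, Category.comp_id] at h1
  · obtain ⟨t₀, rfl⟩ := hgeom Ω t
    exact (lvlAt_iff h g n σ τ hτ t₀).mp (hσ.2 Ω t₀)

end

end K262.Lvl
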