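import Groth.Agent.EllLift.K262.Level
import Groth.Agent.EllLift.K262.Main90
import Groth.Agent.AbVar.K513.Tors
import Mathlib.AlgebraicGeometry.Morphisms.Flat

/-!
# Level structures on elliptic curves over algebraically closed fields
-/

set_option autoImplicit false

universe u v

open CategoryTheory CategoryTheory.Limits MonoidalCategory CartesianMonoidalCategory MonObj GrpObj
  AlgebraicGeometry

namespace K262.Lvl

open K262.EllPtd K262.EllSplit

theorem dim_of_isAbSch {K : Type u} [Field K] {E : Over (Spec (CommRingCat.of K))} {g : ℕ} [LocallyOfFiniteType E.hom]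
    (hE : AgPol.IsAbSch E g) : topologicalKrullDim E.left = g := by
  have h1 : IsPullback (𝟙 E.left) E.hom E.hom (𝟙 _) := IsPullback.of_horiz_isIso ⟨by simp⟩
  rw [Groth.Agent.Flat2G.ProperDim.topologicalKrullDim_field_point E.hom (Field.toIsField K) E.hom (𝟙 _) (𝟙 _) h1
    (IsLocalRing.closedPoint K)]
  exact hE.fibreDim _

theorem card_torsSet_self {K : Type u} [Field K] [IsAlgClosed K] (E : Over (Spec (CommRingCat.of K))) [GrpObj E] {g : ℕ}
    (hE : AgPol.IsAbSch E g) (n : ℕ) (hn : (n : K) ≠ 0) :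
    Nat.card (AgPol.torsSet E n (𝟙_ (Over (Spec (CommRingCat.of K))))) = n ^ (2 * g) := by
  have h1 := hE.smooth
  have h2 := hE.proper
  have h3 := hE.geomConnected
  have h4 := AbS.of_isAbSch hE
  have h5 : IsCommMonObj E := K448.PointedHom.isCommMonObj E
  have h6 := K513.Tors.geometricallyIntegral E
  exact K513.Tors.card_torsPts E g (dim_of_isAbSch hE) n hn

theorem card_torsSet_pt {K : Type u} [Field K] (E : Over (Spec (CommRingCat.of K))) [GrpObj E] {g : ℕ}
    (hE : AgPol.IsAbSch E g) (n : ℕ) (hn : (n : K) ≠ 0) {Ω : Type u} [Field Ω] [IsAlgClosed Ω]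
    (t : Spec (CommRingCat.of Ω) ⟶ Spec (CommRingCat.of K)) :
    Nat.card (AgPol.torsSet E n (Over.mk t)) = n ^ (2 * g) := by
  have h1 := AbS.of_isAbSch hE
  have hnΩ : (n : Ω) ≠ 0 := by
    let φ : K →+* Ω := (Spec.preimage t).hom
    rw [← map_natCast φ]
    exact (map_ne_zero φ).mpr hn
  have h2 := card_torsSet_self (Red.bc t E) (isAbSch_bc t hE) n hnΩ
  have h3 := card_torsSet (cp_bc t E) n (𝟙_ (Over (Spec (CommRingCat.of Ω))))
  rw [h3] at h2
  have e : (Over.map t).obj (𝟙_ (Over (Spec (CommRingCat.of Ω)))) = Over.mk (𝟙 _ ≫ t) := rfl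
  rw [e, Category.id_comp] at h2
  exact h2

theorem closure_single (g n : ℕ) [NeZero n] :
    AddSubgroup.closure (Set.range fun i : Fin (2 * g) => (Pi.single i 1 : Fin (2 * g) → ZMod n)) = ⊤ := by
  rw [eq_top_iff]
  intro x _
  have h1 : x = ∑ i, (x i).val • (Pi.single i 1 : Fin (2 * g) → ZMod n) := by
    funext j
    rw [Finset.sum_apply, Finset.sum_eq_single j]
    · simp
    · intro b _ hb
      simp [Pi.single_eq_of_ne hb.symm]
    · simp
  rw [h1]
  exact sum_mem fun i _ => AddSubgroup.nsmul_mem _ (AddSubgroup.subset_closure (Set.mem_range_self i)) _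

/-- Level structures exist over algebraically closed fields. -/
theorem exists_levelStr {K : Type u} [Field K] [IsAlgClosed K] (E : Over (Spec (CommRingCat.of K))) [GrpObj E] (g : ℕ)
    (hE : AgPol.IsAbSch E g) (n : ℕ) (hn : (n : K) ≠ 0) :
    ∃ σ : Fin (2 * g) → (𝟙_ (Over (Spec (CommRingCat.of K))) ⟶ E), AgPol.IsLevelStr E g n σ := by
  have h1 := hE.smooth
  have h2 := hE.proper
  have h3 := hE.geomConnected
  have h4 := AbS.of_isAbSch hE
  have h5 : IsCommMonObj E := K448.PointedHom.isCommMonObj E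
  have h6 := K513.Tors.geometricallyIntegral E
  have hn0 : n ≠ 0 := by
    rintro rfl
    exact hn Nat.cast_zero
  have : NeZero n := ⟨hn0⟩
  obtain ⟨φ⟩ := K513.Tors.nonempty_mulEquiv E g (dim_of_isAbSch hE) n (Nat.pos_of_ne_zero hn0) hn
  let H := AbDual.torsPts E n (𝟙_ (Over (Spec (CommRingCat.of K))))
  let b : Fin (2 * g) → H := fun i => φ.symm (Multiplicative.ofAdd (Pi.single i 1))
  let σ : Fin (2 * g) → (𝟙_ (Over (Spec (CommRingCat.of K))) ⟶ E) := fun i => (b i).1
  have hσn : ∀ i, σ i ^ n = 1 := fun i => (b i).2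
  have hb : Subgroup.closure (Set.range b) = ⊤ := by
    have e1 : Subgroup.closure (Set.range fun i : Fin (2 * g) =>
        Multiplicative.ofAdd (Pi.single i 1 : Fin (2 * g) → ZMod n)) = ⊤ := by
      have e2 := closure_single g n
      rw [eq_top_iff]
      intro x _
      have e3 : Multiplicative.toAdd x ∈ AddSubgroup.closure
          (Set.range fun i : Fin (2 * g) => (Pi.single i 1 : Fin (2 * g) → ZMod n)) := by rw [e2]; trivial
      refine AddSubgroup.closure_induction (p := fun y _ => Multiplicative.ofAdd y ∈ Subgroup.closure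
        (Set.range fun i : Fin (2 * g) => Multiplicative.ofAdd (Pi.single i 1 : Fin (2 * g) → ZMod n))) ?_ ?_ ?_ ?_ e3
      · rintro _ ⟨i, rfl⟩
        exact Subgroup.subset_closure ⟨i, rfl⟩
      · exact Subgroup.one_mem _
      · intro y z _ _ hy hz
        rw [ofAdd_add]
        exact Subgroup.mul_mem _ hy hz
      · intro y _ hy
        rw [ofAdd_neg]
        exact Subgroup.inv_mem _ hy
    have e2 := congrArg (Subgroup.map φ.symm.toMonoidHom) e1
    rw [MonoidHom.map_closure, ← Set.range_comp, Subgroup.map_top_of_surjective _ φ.symm.surjective] at e2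
    exact e2
  have hcl : (Subgroup.closure (Set.range σ) : Set (𝟙_ (Over (Spec (CommRingCat.of K))) ⟶ E)) =
      AgPol.torsSet E n (𝟙_ (Over (Spec (CommRingCat.of K)))) := by
    have e1 := congrArg (Subgroup.map H.subtype) hb
    rw [MonoidHom.map_closure, ← Set.range_comp, ← MonoidHom.range_eq_map, Subgroup.range_subtype] at e1
    have e2 : Subgroup.closure (Set.range σ) = H := e1
    rw [e2]
    rfl
  refine ⟨σ, hσn, fun Ω _ _ t => ⟨?_, card_torsSet_pt E hE n hn t⟩⟩
  -- restriction to the geometric point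
  let ψ : (𝟙_ (Over (Spec (CommRingCat.of K))) ⟶ E) →* (Over.mk t ⟶ E) :=
    MonoidHom.mk' (fun x => toUnit (Over.mk t) ≫ x) (fun x y => MonObj.comp_mul _ x y)
  have hψ : Function.Injective ψ := by
    intro x y hxy
    have h7 : (toUnit (Over.mk t)).left = t := by
      have := Over.w (toUnit (Over.mk t))
      exact (Category.comp_id _).symm.trans this
    have h8 : (toUnit (Over.mk t)).left ≫ x.left = (toUnit (Over.mk t)).left ≫ y.left :=
      congrArg CommaMorphism.left hxy
    rw [h7] at h8
    have h9 : Flat t := by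
      let φ : K →+* Ω := (Spec.preimage t).hom
      have h10 : Spec.map (CommRingCat.ofHom φ) = t := Spec.map_preimage t
      rw [← h10, HasRingHomProperty.Spec_iff (P := @Flat)]
      algebraize [φ]
      exact (inferInstance : Module.Flat K Ω)
    have h10 : Surjective t := ⟨fun y => ⟨IsLocalRing.closedPoint Ω, Subsingleton.elim _ _⟩⟩
    have h11 := Flat.epi_of_flat_of_surjective t
    ext1
    exact (cancel_epi t).mp h8
  have hsub : ψ '' (AgPol.torsSet E n (𝟙_ (Over (Spec (CommRingCat.of K))))) ⊆ AgPol.torsSet E n (Over.mk t) := by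
    rintro _ ⟨x, hx, rfl⟩
    have hx : x ^ n = 1 := hx
    change ψ x ^ n = 1
    rw [← map_pow, hx, map_one]
  have hfin : (AgPol.torsSet E n (Over.mk t)).Finite := by
    refine Set.finite_coe_iff.mp (Nat.finite_of_card_ne_zero ?_)
    rw [card_torsSet_pt E hE n hn t]
    exact pow_ne_zero _ hn0
  have heq : ψ '' (AgPol.torsSet E n (𝟙_ (Over (Spec (CommRingCat.of K))))) = AgPol.torsSet E n (Over.mk t) := by
    refine Set.eq_of_subset_of_ncard_le hsub ?_ hfin
    have e1 : (AgPol.torsSet E n (Over.mk t)).ncard = n ^ (2 * g) := card_torsSet_pt E hE n hn t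
    have e2 : (ψ '' (AgPol.torsSet E n (𝟙_ (Over (Spec (CommRingCat.of K)))))).ncard =
        (AgPol.torsSet E n (𝟙_ (Over (Spec (CommRingCat.of K))))).ncard := Set.ncard_image_of_injective _ hψ
    have e3 : (AgPol.torsSet E n (𝟙_ (Over (Spec (CommRingCat.of K))))).ncard = n ^ (2 * g) :=
      card_torsSet_self E hE n hn
    rw [e1, e2, e3]
  have e4 : Subgroup.closure (Set.range fun i => toUnit (Over.mk t) ≫ σ i) = (Subgroup.closure (Set.range σ)).map ψ := by
    rw [MonoidHom.map_closure, ← Set.range_comp]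
    rfl
  rw [e4, Subgroup.coe_map, hcl, heq]

end K262.Lvl
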