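import Groth.Agent.EllLift.K820.FamJ
import Groth.Agent.FlatMor.K262.GenExt
import Groth.Agent.S1471

/-!
# Normalised Weierstrass coordinates over an integral base; extension of isomorphisms of generic fibres
-/

set_option autoImplicit false
universe u

open CategoryTheory CategoryTheory.Limits MonoidalCategory CartesianMonoidalCategory AlgebraicGeometry Opposite
open scoped MonObj

namespace K262.NormExt

open K820.EW
open Groth.Agent

section Compare

/-- Uniqueness of normalised coordinates, for two descriptions of the complement of the section. -/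
theorem unique' {A : Type u} [CommRing A] {X : Scheme.{u}} {q : X ⟶ Spec (CommRingCat.of A)}
    {e : Spec (CommRingCat.of A) ⟶ X} {U U' : X.Opens} [IsProper q] [Smooth q] (hq : EllFib q)
    (he : e ≫ q = 𝟙 _) {P Q : Spec (CommRingCat.of A) ⟶ X}
    (hP : P ≫ q = 𝟙 _) (hQ : Q ≫ q = 𝟙 _) {W W' : WeierstrassCurve A} {c : Co W q e U} {c' : Co W' q e U'}
    (n : Norm c P Q) (n' : Norm c' P Q) : W = W' ∧ HEq c.hom c'.hom := by
  have h : U = U' := by
    ext y
    exact (c.hU y).trans (c'.hU y).symm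
  subst h
  exact Norm.unique hq he hP hQ n n'

variable {A K : Type u} [CommRing A] [CommRing K] (φ : A →+* K) {X Y X' : Scheme.{u}}
  {q : X ⟶ Spec (CommRingCat.of A)} {q₂ : Y ⟶ Spec (CommRingCat.of A)} {q' : X' ⟶ Spec (CommRingCat.of K)}
  {g : X' ⟶ X} {g₂ : X' ⟶ Y}

/-- Two families with normalised coordinates over `Spec A` which are isomorphic over a flat extension `K` containing
`A` are isomorphic, compatibly with the given isomorphism. -/
theorem compare (hφ : φ.Flat) (hinj : Function.Injective φ)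
    (hPb : IsPullback g q' q (Spec.map (CommRingCat.ofHom φ)))
    (hPb₂ : IsPullback g₂ q' q₂ (Spec.map (CommRingCat.ofHom φ)))
    [IsProper q'] [Smooth q'] (hq' : EllFib q') [IsProper q₂] [Smooth q₂] (hq₂ : EllFib q₂)
    {e P Q : Spec (CommRingCat.of A) ⟶ X} {e₂ P₂ Q₂ : Spec (CommRingCat.of A) ⟶ Y}
    {e' P' Q' : Spec (CommRingCat.of K) ⟶ X'}
    (he : e ≫ q = 𝟙 _) (he₂ : e₂ ≫ q₂ = 𝟙 _) (he' : e' ≫ q' = 𝟙 _) (hP' : P' ≫ q' = 𝟙 _) (hQ' : Q' ≫ q' = 𝟙 _)
    (hce : e' ≫ g = Spec.map (CommRingCat.ofHom φ) ≫ e) (hcP : P' ≫ g = Spec.map (CommRingCat.ofHom φ) ≫ P)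
    (hcQ : Q' ≫ g = Spec.map (CommRingCat.ofHom φ) ≫ Q)
    (hce₂ : e' ≫ g₂ = Spec.map (CommRingCat.ofHom φ) ≫ e₂) (hcP₂ : P' ≫ g₂ = Spec.map (CommRingCat.ofHom φ) ≫ P₂)
    (hcQ₂ : Q' ≫ g₂ = Spec.map (CommRingCat.ofHom φ) ≫ Q₂)
    {W W₂ : WeierstrassCurve A} {U : X.Opens} {U₂ : Y.Opens} {c : Co W q e U} {c₂ : Co W₂ q₂ e₂ U₂}
    (n : Norm c P Q) (n₂ : Norm c₂ P₂ Q₂) :
    ∃ θ : X ⟶ Y, θ ≫ q₂ = q ∧ g ≫ θ = g₂ := by
  have n1 := n.pull φ hPb he he' hce hφ hcP hcQ
  have n2 := n₂.pull φ hPb₂ he₂ he' hce₂ hφ hcP₂ hcQ₂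
  obtain ⟨hW, hh⟩ := unique' hq' he' hP' hQ' n1 n2
  have hW' : W = W₂ := by
    have h1 := congrArg WeierstrassCurve.a₁ hW
    have h2 := congrArg WeierstrassCurve.a₂ hW
    have h3 := congrArg WeierstrassCurve.a₃ hW
    have h4 := congrArg WeierstrassCurve.a₄ hW
    have h6 := congrArg WeierstrassCurve.a₆ hW
    ext
    · exact hinj h1
    · exact hinj h2
    · exact hinj h3
    · exact hinj h4
    · exact hinj h6
  subst hW'
  have hh' := eq_of_heq hh
  have hi : IsIso c₂.hom := c₂.isIso_hom hq₂ he₂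
  have e1 : g ≫ c.hom = g₂ ≫ c₂.hom := by
    rw [← Co.pull_hom φ hPb he he' hce c hφ, ← Co.pull_hom φ hPb₂ he₂ he' hce₂ c₂ hφ, hh']
  refine ⟨c.hom ≫ inv c₂.hom, ?_, ?_⟩
  · have h5 : inv c₂.hom ≫ q₂ = str W := by rw [IsIso.inv_comp_eq]; exact c₂.hom_str.symm
    rw [Category.assoc, h5, c.hom_str]
  · rw [← Category.assoc, e1, Category.assoc, IsIso.hom_inv_id, Category.comp_id]

end Compare

section Has

variable {S : Scheme.{u}} (J : Over S) [GrpObj J] (σ₀ σ₁ : 𝟙_ (Over S) ⟶ J)

/-- Normalised Weierstrass coordinates exist on the base change to `Spec A`. -/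
def HasNorm {A : Type u} [CommRing A] (j : Spec (CommRingCat.of A) ⟶ S) : Prop :=
  ∃ (W : WeierstrassCurve A) (U : (XJ J j).Opens) (c : Co W (qJ J j) (secJ J j η[J]) U),
    Norm c (secJ J j σ₀) (secJ J j σ₁)

theorem HasNorm.pull {A B : Type u} [CommRing A] [CommRing B] (φ : A →+* B) (hφ : φ.Flat)
    {j : Spec (CommRingCat.of A) ⟶ S} {j' : Spec (CommRingCat.of B) ⟶ S}
    (h : Spec.map (CommRingCat.ofHom φ) ≫ j = j') (H : HasNorm J σ₀ σ₁ j) : HasNorm J σ₀ σ₁ j' := by
  obtain ⟨W, U, c, n⟩ := H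
  exact ⟨_, _, _, n.pull φ (isPullback_mapJ J φ j j' h) (secJ_q J j _) (secJ_q J j' _) (secJ_map J φ j j' h _) hφ
    (secJ_map J φ j j' h _) (secJ_map J φ j j' h _)⟩

end Has

section Glue

variable {T : Scheme.{u}} [IsIntegral T]

/-- Two morphisms over `T` from a flat `T`-scheme to a separated one which agree over the generic point are equal. -/
theorem eq_of_generic {Z W : Scheme.{u}} (pW : W ⟶ T) [Flat pW] (pZ : Z ⟶ T) [IsSeparated pZ] (a b : W ⟶ Z)
    (ha : a ≫ pZ = pW) (hb : b ≫ pZ = pW)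
    (h : pullback.fst pW (T.fromSpecStalk (genericPoint T)) ≫ a =
      pullback.fst pW (T.fromSpecStalk (genericPoint T)) ≫ b) : a = b := by
  have := K262.GenExt.quasiCompact_fromSpecStalk T
  have := K262.GenExt.schDom_fromSpecStalk T
  exact Groth.Agent.S2299.result _ pZ a b (ha.trans hb.symm) h

variable {Y Z : Scheme.{u}} (pY : Y ⟶ T) (pZ : Z ⟶ T) [Flat pY] [IsSeparated pZ]
  (ψ : pullback pY (T.fromSpecStalk (genericPoint T)) ⟶ Z)

/-- A morphism on the generic fibre which extends locally over an integral base extends. -/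
theorem exists_extension
    (H : ∀ t : T, ∃ (V : Scheme.{u}) (j : V ⟶ T) (_ : IsOpenImmersion j) (_ : t ∈ Set.range j)
      (m : pullback pY (T.fromSpecStalk (genericPoint T)) ⟶ pullback pY j) (a : pullback pY j ⟶ Z),
      a ≫ pZ = pullback.fst pY j ≫ pY ∧
      m ≫ pullback.fst pY j = pullback.fst pY (T.fromSpecStalk (genericPoint T)) ∧ m ≫ a = ψ) :
    ∃ φ : Y ⟶ Z, φ ≫ pZ = pY ∧ pullback.fst pY (T.fromSpecStalk (genericPoint T)) ≫ φ = ψ := by
  choose V j hj ht m a ha hm hma using H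
  have := K262.GenExt.quasiCompact_fromSpecStalk T
  have := K262.GenExt.schDom_fromSpecStalk T
  let 𝒰 : Y.OpenCover := Scheme.Cover.mkOfCovers T (fun t => pullback pY (j t)) (fun t => pullback.fst pY (j t))
    (fun y => by
      refine ⟨pY y, ?_⟩
      obtain ⟨v, hv⟩ := ht (pY y)
      obtain ⟨z, hz, -⟩ := Scheme.Pullback.exists_preimage_pullback y v hv.symm
      exact ⟨z, hz⟩)
    (fun t => by have := hj t; exact inferInstanceAs (IsOpenImmersion (pullback.fst pY (j t))))
  have key : ∀ x y : T, pullback.fst (pullback.fst pY (j x)) (pullback.fst pY (j y)) ≫ a x =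
      pullback.snd (pullback.fst pY (j x)) (pullback.fst pY (j y)) ≫ a y := by
    intro x y
    have hjx := hj x
    have hjy := hj y
    let fx : pullback pY (j x) ⟶ Y := pullback.fst pY (j x)
    let fy : pullback pY (j y) ⟶ Y := pullback.fst pY (j y)
    change pullback.fst fx fy ≫ a x = pullback.snd fx fy ≫ a y
    have hox : IsOpenImmersion fx := inferInstanceAs (IsOpenImmersion (pullback.fst pY (j x)))
    have hoy : IsOpenImmersion fy := inferInstanceAs (IsOpenImmersion (pullback.fst pY (j y)))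
    let r : pullback fx fy ⟶ Y := pullback.fst fx fy ≫ fx
    have hr' : r = pullback.snd fx fy ≫ fy := pullback.condition
    have hfl : Flat r := inferInstance
    let d := pullback.fst r (pullback.fst pY (T.fromSpecStalk (genericPoint T)))
    let d' := pullback.snd r (pullback.fst pY (T.fromSpecStalk (genericPoint T)))
    have hr : d ≫ r = d' ≫ pullback.fst pY (T.fromSpecStalk (genericPoint T)) := pullback.condition
    refine Groth.Agent.S2299.result d pZ _ _ ?_ ?_
    · rw [Category.assoc, Category.assoc, ha, ha]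
      change pullback.fst fx fy ≫ fx ≫ pY = pullback.snd fx fy ≫ fy ≫ pY
      rw [← Category.assoc, ← Category.assoc, pullback.condition]
    · have e1 : d ≫ pullback.fst fx fy = d' ≫ m x := by
        rw [← cancel_mono fx, Category.assoc, Category.assoc]
        exact hr.trans (congrArg (d' ≫ ·) (hm x).symm)
      have e2 : d ≫ pullback.snd fx fy = d' ≫ m y := by
        rw [← cancel_mono fy, Category.assoc, Category.assoc, ← hr']
        exact hr.trans (congrArg (d' ≫ ·) (hm y).symm)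
      rw [← Category.assoc, e1, Category.assoc, hma, ← Category.assoc, e2, Category.assoc, hma]
  let φ := 𝒰.glueMorphisms a key
  have hφ : ∀ t : T, pullback.fst pY (j t) ≫ φ = a t := fun t => 𝒰.ι_glueMorphisms a key t
  refine ⟨φ, ?_, ?_⟩
  · have h1 : ∀ t : T, pullback.fst pY (j t) ≫ φ ≫ pZ = pullback.fst pY (j t) ≫ pY := fun t => by
      rw [← Category.assoc, hφ, ha]
    exact Scheme.Cover.hom_ext 𝒰 _ _ h1
  · rw [← hm (genericPoint T), Category.assoc, hφ, hma]

end Glue

end K262.NormExt
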