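import Groth.Agent.EllLift.K262.NormTrans
import Groth.Agent.EllLift.K248.NJ
import Groth.Agent.Flat2B.SmoothGeom

/-!
# Isomorphisms of the generic fibres of elliptic curves with level structure extend
-/

set_option autoImplicit false
universe u

open CategoryTheory CategoryTheory.Limits MonoidalCategory CartesianMonoidalCategory AlgebraicGeometry Opposite
open scoped MonObj

namespace K262.NormFin

open K820.EW K262.NormExt K262.NormLoc K262.NormTrans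
open Groth.Agent Groth.Agent.Sga3B.BcPts

section Ev

variable {S : Scheme.{u}} {A : Type u} [CommRing A] (j : Spec (CommRingCat.of A) ⟶ S) {J J' : Over S}

theorem bcEquiv_symm_left {S' : Scheme.{u}} (f : S' ⟶ S) {T : Over S'} {X : Over S} (y : T ⟶ Red.bc f X) :
    ((bcEquiv f T X).symm y).left = y.left ≫ pullback.fst X.hom f := by
  simp [bcEquiv, Over.mapPullbackAdj]

theorem bcEquiv_left_fst {S' : Scheme.{u}} (f : S' ⟶ S) {T : Over S'} {X : Over S}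
    (x : (Over.map f).obj T ⟶ X) : (bcEquiv f T X x).left ≫ pullback.fst X.hom f = x.left := by
  rw [← bcEquiv_symm_left, Equiv.symm_apply_apply]

theorem ev_left (φ : Red.bc j J ⟶ Red.bc j J') (s : 𝟙_ (Over S) ⟶ J) :
    (ev φ (toUnit (Over.mk j) ≫ s) (𝟙 _)).left = secJ J j s ≫ φ.left ≫ gJ J' j := by
  have h1 : (bcEquiv j (Over.mk (𝟙 (Over.mk j) : Over.mk j ⟶ Over.mk j).left) J
      ((overIso (𝟙 (Over.mk j))).hom ≫ toUnit (Over.mk j) ≫ s)).left = secJ J j s := by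
    apply secJ_unique
    · exact Over.w (bcEquiv j (Over.mk (𝟙 (Over.mk j) : Over.mk j ⟶ Over.mk j).left) J
        ((overIso (𝟙 (Over.mk j))).hom ≫ toUnit (Over.mk j) ≫ s))
    · refine (bcEquiv_left_fst j _).trans ?_
      change 𝟙 _ ≫ (toUnit (Over.mk j)).left ≫ s.left = _
      rw [Category.id_comp]
      rfl
  change 𝟙 _ ≫ ((bcEquiv j _ J').symm _).left = _
  rw [Category.id_comp, bcEquiv_symm_left, Over.comp_left, h1, Category.assoc]

theorem secJ_of_ev (φ : Red.bc j J ⟶ Red.bc j J') (s : 𝟙_ (Over S) ⟶ J) (t : 𝟙_ (Over S) ⟶ J')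
    (h : ev φ (toUnit (Over.mk j) ≫ s) (𝟙 _) = toUnit (Over.mk j) ≫ t) :
    secJ J j s ≫ φ.left = secJ J' j t := by
  apply secJ_unique
  · rw [Category.assoc]
    exact (congrArg (secJ J j s ≫ ·) (Over.w φ)).trans (secJ_q J j s)
  · rw [Category.assoc, ← ev_left, h]
    rfl

theorem ev_eta [GrpObj J] [GrpObj J'] (φ : Red.bc j J ⟶ Red.bc j J') [IsMonHom φ] :
    ev φ (toUnit (Over.mk j) ≫ η[J]) (𝟙 _) = toUnit (Over.mk j) ≫ η[J'] := by
  have h1 : ev φ (1 : Over.mk j ⟶ J) (𝟙 _) = 1 := by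
    have h2 := ev_mul φ (1 : Over.mk j ⟶ J) 1 (𝟙 _)
    rw [mul_one] at h2
    exact left_eq_mul.mp h2
  rw [Hom.one_def] at h1
  rw [h1, Hom.one_def]

end Ev


section Common

variable {S : Scheme.{u}} {J J' : Over S} [GrpObj J] [GrpObj J'] {σ₀ σ₁ : 𝟙_ (Over S) ⟶ J} {τ₀ τ₁ : 𝟙_ (Over S) ⟶ J'}

/-- Normalised coordinates for two families on a common affine neighbourhood. -/
theorem exists_common (hJ : AgPol.IsAbSch J 1) (hJ' : AgPol.IsAbSch J' 1) (hg : K820.LevelGrp.Good J σ₀ σ₁)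
    (hg' : K820.LevelGrp.Good J' τ₀ τ₁) (s : S) : ∃ (V : S.Opens) (hV : IsAffineOpen V) (_ : s ∈ V),
      HasNorm J σ₀ σ₁ (show Spec (CommRingCat.of Γ(S, V)) ⟶ S from hV.fromSpec) ∧
      HasNorm J' τ₀ τ₁ (show Spec (CommRingCat.of Γ(S, V)) ⟶ S from hV.fromSpec) := by
  obtain ⟨U, hU, hsU, W, ⟨N⟩⟩ := K248.EllEnd.exists_nw hJ hg s
  obtain ⟨U', hU', hsU', W', ⟨N'⟩⟩ := K248.EllEnd.exists_nw hJ' hg' s
  obtain ⟨_, ⟨V, hV, rfl⟩, hsV, hle⟩ := S.isBasis_affineOpens.exists_subset_of_mem_open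
    (show s ∈ ((U ⊓ U' : S.Opens) : Set S) from ⟨hsU, hsU'⟩) (U ⊓ U').isOpen
  have hle1 : V ≤ U := fun x hx => (hle hx).1
  have hle2 : V ≤ U' := fun x hx => (hle hx).2
  refine ⟨V, hV, hsV, ?_, ?_⟩
  · exact HasNorm.pull J σ₀ σ₁ _ (K248.EllEnd.flat_res hU hV hle1)
      (IsAffineOpen.map_fromSpec hU hV (homOfLE hle1).op) ⟨W, N.U, N.c, N.n⟩
  · exact HasNorm.pull J' τ₀ τ₁ _ (K248.EllEnd.flat_res hU' hV hle2)
      (IsAffineOpen.map_fromSpec hU' hV (homOfLE hle2).op) ⟨W', N'.U, N'.c, N'.n⟩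

variable [IsIntegral S]

/-- An isomorphism of generic fibres compatible with the sections extends to a morphism. -/
theorem exists_ext (hJ : AgPol.IsAbSch J 1) (hJ' : AgPol.IsAbSch J' 1) (hg : K820.LevelGrp.Good J σ₀ σ₁)
    (hg' : K820.LevelGrp.Good J' τ₀ τ₁)
    (θ : XJ J (jη S) ≅ XJ J' (jη S)) (hθ : θ.hom ≫ qJ J' (jη S) = qJ J (jη S))
    (h1 : secJ J (jη S) η[J] ≫ θ.hom = secJ J' (jη S) η[J'])
    (hσ₀ : secJ J (jη S) σ₀ ≫ θ.hom = secJ J' (jη S) τ₀) (hσ₁ : secJ J (jη S) σ₁ ≫ θ.hom = secJ J' (jη S) τ₁) :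
    ∃ ψ : J.left ⟶ J'.left, ψ ≫ J'.hom = J.hom ∧ gJ J (jη S) ≫ ψ = θ.hom ≫ gJ J' (jη S) := by
  have i1 := hJ.smooth
  have i2 := hJ'.proper
  refine exists_extension J.hom J'.hom (θ.hom ≫ gJ J' (jη S)) ?_
  intro s
  obtain ⟨V, hV, hsV, H, H'⟩ := exists_common hJ hJ' hg hg' s
  let j : Spec (CommRingCat.of Γ(S, V)) ⟶ S := hV.fromSpec
  have hmem : s ∈ Set.range j := by
    change s ∈ Set.range hV.fromSpec
    rw [hV.range_fromSpec]
    exact hsV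
  have hj : IsOpenImmersion j := inferInstanceAs (IsOpenImmersion hV.fromSpec)
  obtain ⟨m, a, ha, hm, hma⟩ := local_ext J J' hJ hJ' σ₀ σ₁ τ₀ τ₁ j ⟨s, hmem⟩ H H' θ hθ h1 hσ₀ hσ₁
  exact ⟨_, j, hj, hmem, m, a, ha, hm, hma⟩

theorem exists_iso (hJ : AgPol.IsAbSch J 1) (hJ' : AgPol.IsAbSch J' 1) (hg : K820.LevelGrp.Good J σ₀ σ₁)
    (hg' : K820.LevelGrp.Good J' τ₀ τ₁)
    (θ : XJ J (jη S) ≅ XJ J' (jη S)) (hθ : θ.hom ≫ qJ J' (jη S) = qJ J (jη S))
    (h1 : secJ J (jη S) η[J] ≫ θ.hom = secJ J' (jη S) η[J'])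
    (hσ₀ : secJ J (jη S) σ₀ ≫ θ.hom = secJ J' (jη S) τ₀) (hσ₁ : secJ J (jη S) σ₁ ≫ θ.hom = secJ J' (jη S) τ₁) :
    ∃ ψ : J ≅ J', gJ J (jη S) ≫ ψ.hom.left = θ.hom ≫ gJ J' (jη S) := by
  have i1 := hJ.smooth
  have i2 := hJ'.proper
  have i3 := hJ'.smooth
  have i4 := hJ.proper
  have sym : ∀ (s : 𝟙_ (Over S) ⟶ J) (t : 𝟙_ (Over S) ⟶ J') (_ : secJ J (jη S) s ≫ θ.hom = secJ J' (jη S) t),
      secJ J' (jη S) t ≫ θ.symm.hom = secJ J (jη S) s := by
    intro s t h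
    rw [← h, Category.assoc, Iso.symm_hom, Iso.hom_inv_id, Category.comp_id]
  obtain ⟨ψ, hψ, hψg⟩ := exists_ext hJ hJ' hg hg' θ hθ h1 hσ₀ hσ₁
  obtain ⟨χ, hχ, hχg⟩ := exists_ext hJ' hJ hg' hg θ.symm (by rw [← hθ, Iso.symm_hom, Iso.inv_hom_id_assoc])
    (sym _ _ h1) (sym _ _ hσ₀) (sym _ _ hσ₁)
  have e1 : ψ ≫ χ = 𝟙 _ := by
    refine eq_of_generic J.hom J.hom _ _ (by rw [Category.assoc, hχ, hψ]) (Category.id_comp _) ?_
    change gJ J (jη S) ≫ ψ ≫ χ = gJ J (jη S) ≫ 𝟙 _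
    rw [← Category.assoc, hψg, Category.assoc, hχg, Iso.symm_hom, Iso.hom_inv_id_assoc, Category.comp_id]
  have e2 : χ ≫ ψ = 𝟙 _ := by
    refine eq_of_generic J'.hom J'.hom _ _ (by rw [Category.assoc, hψ, hχ]) (Category.id_comp _) ?_
    change gJ J' (jη S) ≫ χ ≫ ψ = gJ J' (jη S) ≫ 𝟙 _
    rw [← Category.assoc, hχg, Category.assoc, hψg, Iso.symm_hom, Iso.inv_hom_id_assoc, Category.comp_id]
  exact ⟨Over.isoMk ⟨ψ, χ, e1, e2⟩ hψ, hψg⟩

end Common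


section Final

variable {S : Scheme.{u}}

theorem isCommMonObj {E : Over S} [GrpObj E] {g : ℕ} (hE : AgPol.IsAbSch E g) : IsCommMonObj E := by
  have := hE.smooth
  have := hE.proper
  have := hE.geomConnected
  have := Groth.Agent.Flat2B.SmoothGeom.geometricallyReduced_of_smooth E.hom
  exact K448.PointedHom.isCommMonObj E

theorem isMonHom_of_unit {X Y : Over S} [GrpObj X] [GrpObj Y] {g g' : ℕ} (hX : AgPol.IsAbSch X g)
    (hY : AgPol.IsAbSch Y g') (e : X ⟶ Y) (he : η[X] ≫ e = η[Y]) : IsMonHom e := by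
  have := hX.smooth
  have := hX.proper
  have := hX.geomConnected
  have := hY.proper
  have := Groth.Agent.Flat2B.SmoothGeom.geometricallyReduced_of_smooth X.hom
  exact K448.PointedHom.isMonHom_of_pointed e he

variable [IsIntegral S]

/-- Sections over an integral base which agree at the generic point are equal. -/
theorem sec_ext {Y : Over S} [IsSeparated Y.hom] (a b : 𝟙_ (Over S) ⟶ Y)
    (h : jη S ≫ (show S ⟶ Y.left from a.left) = jη S ≫ (show S ⟶ Y.left from b.left)) : a = b := by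
  apply Over.OverMorphism.ext
  refine eq_of_generic (𝟙 S) Y.hom (show S ⟶ Y.left from a.left) (show S ⟶ Y.left from b.left) (Over.w a)
    (Over.w b) ?_
  have e1 : pullback.fst (𝟙 S) (S.fromSpecStalk (genericPoint S)) =
      pullback.snd (𝟙 S) (S.fromSpecStalk (genericPoint S)) ≫ jη S := by
    rw [← Category.comp_id (pullback.fst (𝟙 S) (S.fromSpecStalk (genericPoint S)))]
    exact pullback.condition
  rw [e1, Category.assoc, Category.assoc, h]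

theorem exists_grpIso (n : ℕ) (hn : 3 ≤ n)
    (E E' : Over S) [GrpObj E] [GrpObj E'] (hE : AgPol.IsAbSch E 1) (hE' : AgPol.IsAbSch E' 1)
    (σ : Fin (2 * 1) → (𝟙_ (Over S) ⟶ E)) (hσ : AgPol.IsLevelStr E 1 n σ)
    (σ' : Fin (2 * 1) → (𝟙_ (Over S) ⟶ E')) (hσ' : AgPol.IsLevelStr E' 1 n σ')
    (φ : Grp.mk (Red.bc (S.fromSpecStalk (genericPoint S)) E) ≅ Grp.mk (Red.bc (S.fromSpecStalk (genericPoint S)) E')) :
    ∃ ψ : Grp.mk E ≅ Grp.mk E',
      (Over.pullback (S.fromSpecStalk (genericPoint S))).map ψ.hom.hom.hom = φ.hom.hom.hom := by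
  have hc := isCommMonObj hE
  have hc' := isCommMonObj hE'
  have hp := hE'.proper
  let f : Red.bc (jη S) E ⟶ Red.bc (jη S) E' := φ.hom.hom.hom
  let f' : Red.bc (jη S) E' ⟶ Red.bc (jη S) E := φ.inv.hom.hom
  have hf : f ≫ f' = 𝟙 _ := congrArg (fun g => g.hom.hom) φ.hom_inv_id
  have hf' : f' ≫ f = 𝟙 _ := congrArg (fun g => g.hom.hom) φ.inv_hom_id
  have hmf : IsMonHom f := inferInstanceAs (IsMonHom φ.hom.hom.hom)
  obtain ⟨τ, hτ, hg'⟩ := exists_transport hn hσ hσ' f f' hf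
  let θ : XJ E (jη S) ≅ XJ E' (jη S) :=
    ⟨f.left, f'.left, congrArg (fun g => g.left) hf, congrArg (fun g => g.left) hf'⟩
  have hη : secJ E (jη S) η[E] ≫ θ.hom = secJ E' (jη S) η[E'] := secJ_of_ev (jη S) f _ _ (ev_eta (jη S) f)
  obtain ⟨ψ, hψ⟩ := exists_iso hE hE' (K820.LevelGrp.good_of_isLevelStr E hE hn σ hσ) hg' θ (Over.w f) hη
    (secJ_of_ev (jη S) f _ _ (hτ 0)) (secJ_of_ev (jη S) f _ _ (hτ 1))
  have hmon : IsMonHom ψ.hom := by
    refine isMonHom_of_unit hE hE' ψ.hom (sec_ext _ _ ?_)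
    change jη S ≫ (show S ⟶ E.left from η[E].left) ≫ ψ.hom.left = _
    rw [← Category.assoc, ← secJ_g, Category.assoc, hψ, ← Category.assoc, hη]
    exact secJ_g E' (jη S) η[E']
  refine ⟨Grp.mkIso' ψ, ?_⟩
  apply Over.OverMorphism.ext
  apply pullback.hom_ext
  · refine Eq.trans ?_ hψ
    exact pullback.lift_fst _ _ _
  · refine Eq.trans (Over.w ((Over.pullback (jη S)).map ψ.hom)) (Over.w f).symm

end Final

end K262.NormFin
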