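import Groth.Agent.EllLift.K262.NormExt

/-!
# Extension of isomorphisms of generic fibres over an affine open with normalised coordinates
-/

set_option autoImplicit false
universe u

open CategoryTheory CategoryTheory.Limits MonoidalCategory CartesianMonoidalCategory AlgebraicGeometry Opposite
open scoped MonObj

namespace K262.NormLoc

open K820.EW K262.NormExt
open Groth.Agent

variable {S : Scheme.{u}} [IsIntegral S]

/-- The local ring at the generic point as a point of the base. -/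
noncomputable abbrev KS (S : Scheme.{u}) [IsIntegral S] : Type u := ↑(S.presheaf.stalk (genericPoint S))

noncomputable abbrev jη (S : Scheme.{u}) [IsIntegral S] : Spec (CommRingCat.of (KS S)) ⟶ S :=
  S.fromSpecStalk (genericPoint S)

theorem exists_ringHom {A : Type u} [CommRing A] (j : Spec (CommRingCat.of A) ⟶ S) [IsOpenImmersion j]
    (hj : (Set.range j).Nonempty) : ∃ φ : A →+* KS S, Spec.map (CommRingCat.ofHom φ) ≫ j = jη S ∧ φ.Flat ∧
      Function.Injective φ := by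
  have hqc : QuasiCompact (jη S) := K262.GenExt.quasiCompact_fromSpecStalk S
  have hdom : IsSchemeTheoreticallyDominant (jη S) := K262.GenExt.schDom_fromSpecStalk S
  have hfl : Flat (jη S) := Groth.Agent.S1471.flat_fromSpecStalk S _
  have hopen : IsOpen (Set.range j) := j.isOpenEmbedding.isOpen_range
  have hη : genericPoint S ∈ Set.range j := by
    obtain ⟨s, hs⟩ := hj
    exact (genericPoint_specializes s).mem_open hopen hs
  have hr : Set.range (jη S) ⊆ Set.range j := by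
    rw [Scheme.range_fromSpecStalk]
    intro y hy
    exact (hy : y ⤳ genericPoint S).mem_open hopen hη
  let r : Spec (CommRingCat.of (KS S)) ⟶ Spec (CommRingCat.of A) := IsOpenImmersion.lift j (jη S) hr
  have hrj : r ≫ j = jη S := IsOpenImmersion.lift_fac _ _ _
  let φ : A →+* KS S := (Spec.preimage r).hom
  have hφ : Spec.map (CommRingCat.ofHom φ) = r := by
    change Spec.map (Spec.preimage r) = r
    exact Spec.map_preimage r
  have hpb : IsPullback (𝟙 _) r (jη S) j :=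
    IsPullback.of_horiz_isIso_mono ⟨by rw [Category.id_comp, hrj]⟩
  have h1 : Flat r := MorphismProperty.of_isPullback (P := @Flat) hpb hfl
  have h2 : IsSchemeTheoreticallyDominant r := IsSchemeTheoreticallyDominant.of_isPullback hpb
  have h3 : QuasiCompact r := MorphismProperty.of_isPullback (P := @QuasiCompact) hpb hqc
  refine ⟨φ, by rw [hφ, hrj], ?_, ?_⟩
  · rw [← hφ, Flat.SpecMap_iff] at h1
    exact h1
  · have h4 := r.app_injective ⊤
    rw [← hφ] at h4
    intro a b hab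
    have h6 : (Spec.map (CommRingCat.ofHom φ)).app ⊤ ((Scheme.ΓSpecIso (CommRingCat.of A)).inv a) =
        (Spec.map (CommRingCat.ofHom φ)).app ⊤ ((Scheme.ΓSpecIso (CommRingCat.of A)).inv b) := by
      have key : ∀ c : A, (Spec.map (CommRingCat.ofHom φ)).app ⊤ ((Scheme.ΓSpecIso (CommRingCat.of A)).inv c) =
          (Scheme.ΓSpecIso (CommRingCat.of (KS S))).inv (φ c) := by
        intro c
        have h7 : (Scheme.ΓSpecIso (CommRingCat.of A)).inv ≫ (Spec.map (CommRingCat.ofHom φ)).app ⊤ =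
            CommRingCat.ofHom φ ≫ (Scheme.ΓSpecIso (CommRingCat.of (KS S))).inv :=
          (Scheme.ΓSpecIso_inv_naturality (CommRingCat.ofHom φ)).symm
        exact congrArg (fun g : CommRingCat.of A ⟶ _ => g c) h7
      rw [key, key, hab]
    have h8 := h4 h6
    exact (ConcreteCategory.bijective_of_isIso (Scheme.ΓSpecIso (CommRingCat.of A)).inv).1 h8

variable (J J' : Over S) [GrpObj J] [GrpObj J']

/-- Extension over an affine open of an isomorphism of generic fibres. -/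
theorem local_ext (hJ : AgPol.IsAbSch J 1) (hJ' : AgPol.IsAbSch J' 1) (σ₀ σ₁ : 𝟙_ (Over S) ⟶ J)
    (τ₀ τ₁ : 𝟙_ (Over S) ⟶ J') {A : Type u} [CommRing A] (j : Spec (CommRingCat.of A) ⟶ S) [IsOpenImmersion j]
    (hj : (Set.range j).Nonempty) (H : HasNorm J σ₀ σ₁ j) (H' : HasNorm J' τ₀ τ₁ j)
    (θ : XJ J (jη S) ≅ XJ J' (jη S)) (hθ : θ.hom ≫ qJ J' (jη S) = qJ J (jη S))
    (h1 : secJ J (jη S) η[J] ≫ θ.hom = secJ J' (jη S) η[J'])
    (hσ₀ : secJ J (jη S) σ₀ ≫ θ.hom = secJ J' (jη S) τ₀) (hσ₁ : secJ J (jη S) σ₁ ≫ θ.hom = secJ J' (jη S) τ₁) :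
    ∃ (m : XJ J (jη S) ⟶ XJ J j) (a : XJ J j ⟶ J'.left), a ≫ J'.hom = gJ J j ≫ J.hom ∧
      m ≫ gJ J j = gJ J (jη S) ∧ m ≫ a = θ.hom ≫ gJ J' (jη S) := by
  obtain ⟨φ, hφ, hfl, hinj⟩ := exists_ringHom j hj
  obtain ⟨W, U, c, n⟩ := H
  obtain ⟨W', U', c', n'⟩ := H'
  have i1 := hJ.smooth
  have i2 := hJ.proper
  have i3 := hJ'.smooth
  have i4 := hJ'.proper
  have hq : EllFib (qJ J (jη S)) :=
    EllFib.of_isPullback (IsPullback.of_hasPullback J.hom (jη S)) (K820.Genus.ellFib J hJ)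
  have hq₂ : EllFib (qJ J' j) :=
    EllFib.of_isPullback (IsPullback.of_hasPullback J'.hom j) (K820.Genus.ellFib J' hJ')
  have hpb := isPullback_mapJ J φ j (jη S) hφ
  have hpb' : IsPullback (θ.hom ≫ mapJ J' φ j (jη S) hφ) (qJ J (jη S)) (qJ J' j)
      (Spec.map (CommRingCat.ofHom φ)) := by
    refine (isPullback_mapJ J' φ j (jη S) hφ).of_iso θ.symm (Iso.refl _) (Iso.refl _) (Iso.refl _) ?_ ?_ ?_ ?_
    · simp
    · simp [← hθ]
    · simp
    · simp
  have comp : ∀ (s : 𝟙_ (Over S) ⟶ J) (t : 𝟙_ (Over S) ⟶ J') (_ : secJ J (jη S) s ≫ θ.hom = secJ J' (jη S) t),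
      secJ J (jη S) s ≫ θ.hom ≫ mapJ J' φ j (jη S) hφ = Spec.map (CommRingCat.ofHom φ) ≫ secJ J' j t := by
    intro s t h
    rw [← Category.assoc, h]
    exact secJ_map J' φ j (jη S) hφ t
  obtain ⟨a, ha1, ha2⟩ := compare φ hfl hinj hpb hpb' hq hq₂ (secJ_q J j η[J]) (secJ_q J' j η[J'])
    (secJ_q J (jη S) η[J]) (secJ_q J (jη S) σ₀) (secJ_q J (jη S) σ₁) (secJ_map J φ j (jη S) hφ _)
    (secJ_map J φ j (jη S) hφ _) (secJ_map J φ j (jη S) hφ _) (comp _ _ h1) (comp _ _ hσ₀) (comp _ _ hσ₁) n n'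
  refine ⟨mapJ J φ j (jη S) hφ, a ≫ gJ J' j, ?_, mapJ_g J φ j (jη S) hφ, ?_⟩
  · have e1 : gJ J' j ≫ J'.hom = qJ J' j ≫ j := pullback.condition
    have e2 : gJ J j ≫ J.hom = qJ J j ≫ j := pullback.condition
    rw [Category.assoc, e1, ← Category.assoc, ha1, e2]
  · rw [← Category.assoc, ha2, Category.assoc, mapJ_g]

end K262.NormLoc
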