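import Groth.Agent.EllLift.K262.NormLoc
import Groth.Agent.AbSch.K448.PointedHom
import Groth.Agent.Sga3B.BcPts

/-!
# Transport of a level structure along an isomorphism of generic fibres
-/

set_option autoImplicit false
universe u

open CategoryTheory CategoryTheory.Limits MonoidalCategory CartesianMonoidalCategory AlgebraicGeometry Opposite
open scoped MonObj

namespace K262.PairGrp

theorem exists_word {A : Type*} [CommGroup A] {p r : A} {n : ℕ} (hn : 0 < n) (hp : p ^ n = 1) (hr : r ^ n = 1)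
    {z : A} (hz : z ∈ Subgroup.closure {p, r}) : ∃ a b : Fin n, p ^ (a : ℕ) * r ^ (b : ℕ) = z := by
  obtain ⟨i, j, rfl⟩ := Subgroup.mem_closure_pair.mp hz
  have key : ∀ (x : A) (_ : x ^ n = 1) (i : ℤ), x ^ (i % n).toNat = x ^ i := by
    intro x hx i
    conv_rhs => rw [← Int.mul_ediv_add_emod i n]
    rw [zpow_add, zpow_mul, zpow_natCast, hx, one_zpow, one_mul, ← zpow_natCast,
      Int.toNat_of_nonneg (Int.emod_nonneg _ (by omega))]
  have hlt : ∀ i : ℤ, (i % n).toNat < n := by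
    intro i
    have := Int.emod_lt_of_pos i (by omega : (0 : ℤ) < n)
    omega
  exact ⟨⟨_, hlt i⟩, ⟨_, hlt j⟩, by rw [key p hp, key r hr]⟩

theorem dvd_of_word {A : Type*} [CommGroup A] {p r : A} {n : ℕ} (hn : 0 < n) (hp : p ^ n = 1) (hr : r ^ n = 1)
    (hcard : Nat.card (Subgroup.closure {p, r}) = n ^ 2) {a b : ℕ} (h : p ^ a * r ^ b = 1) : n ∣ a ∧ n ∣ b := by
  let f : Fin n × Fin n → Subgroup.closure {p, r} := fun z =>
    ⟨p ^ (z.1 : ℕ) * r ^ (z.2 : ℕ), Subgroup.mul_mem _ (Subgroup.pow_mem _ (Subgroup.subset_closure (by simp)) _)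
      (Subgroup.pow_mem _ (Subgroup.subset_closure (by simp)) _)⟩
  have hf : Function.Surjective f := by
    rintro ⟨z, hz⟩
    obtain ⟨a, b, hab⟩ := exists_word hn hp hr hz
    exact ⟨(a, b), Subtype.ext hab⟩
  have hfin : Finite (Subgroup.closure {p, r}) := Finite.of_surjective f hf
  have hbij : Function.Bijective f := by
    refine hf.bijective_of_nat_card_le ?_
    rw [hcard]
    simp [pow_two]
  have hmod : ∀ (x : A) (_ : x ^ n = 1) (i : ℕ), x ^ (i % n) = x ^ i := by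
    intro x hx i
    conv_rhs => rw [← Nat.div_add_mod i n]
    rw [pow_add, pow_mul, hx, one_pow, one_mul]
  have h1 : f (⟨a % n, Nat.mod_lt _ hn⟩, ⟨b % n, Nat.mod_lt _ hn⟩) = f (⟨0, hn⟩, ⟨0, hn⟩) := by
    apply Subtype.ext
    change p ^ (a % n) * r ^ (b % n) = p ^ 0 * r ^ 0
    rw [hmod p hp, hmod r hr, h, pow_zero, pow_zero, one_mul]
  have h2 := hbij.1 h1
  simp only [Prod.mk.injEq, Fin.mk.injEq] at h2
  exact ⟨Nat.dvd_of_mod_eq_zero h2.1, Nat.dvd_of_mod_eq_zero h2.2⟩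

/-- Relations between powers can be read off from pairs of exponents. -/
theorem word_pow {A : Type*} [CommGroup A] {p r P R : A} {a b a' b' : ℕ} (hP : p ^ a * r ^ b = P)
    (hR : p ^ a' * r ^ b' = R) (c d : ℕ) : P ^ c * R ^ d = p ^ (a * c + a' * d) * r ^ (b * c + b' * d) := by
  rw [← hP, ← hR, mul_pow, mul_pow, pow_add, pow_add, pow_mul, pow_mul, pow_mul, pow_mul]
  exact mul_mul_mul_comm _ _ _ _

end K262.PairGrp

namespace K262.NormTrans

open K820.EW K262.NormExt K262.NormLoc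
open Groth.Agent Groth.Agent.Sga3B.BcPts

section Lvl

variable {S : Scheme.{u}} {J : Over S} [GrpObj J] [IsCommMonObj J] {n : ℕ} {σ : Fin (2 * 1) → (𝟙_ (Over S) ⟶ J)}

/-- Values of a level structure at a geometric point. -/
theorem level_at (hσ : AgPol.IsLevelStr J 1 n σ) {Ω : Type u} [Field Ω] [IsAlgClosed Ω]
    (t : Spec (CommRingCat.of Ω) ⟶ S) :
    (∀ i, (toUnit (Over.mk t) ≫ σ i) ^ n = 1) ∧
    Nat.card (Subgroup.closure {toUnit (Over.mk t) ≫ σ 0, toUnit (Over.mk t) ≫ σ 1}) = n ^ 2 ∧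
    ∀ z : Over.mk t ⟶ J, z ^ n = 1 → z ∈ Subgroup.closure {toUnit (Over.mk t) ≫ σ 0, toUnit (Over.mk t) ≫ σ 1} := by
  obtain ⟨h1, h2⟩ := hσ
  obtain ⟨h3, h4⟩ := h2 Ω t
  have hr : (Set.range fun i => toUnit (Over.mk t) ≫ σ i) =
      {toUnit (Over.mk t) ≫ σ 0, toUnit (Over.mk t) ≫ σ 1} := by
    ext z
    constructor
    · rintro ⟨i, rfl⟩
      fin_cases i
      · exact Or.inl rfl
      · exact Or.inr rfl
    · rintro (rfl | rfl)
      · exact ⟨0, rfl⟩
      · exact ⟨1, rfl⟩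
  rw [hr] at h3
  refine ⟨fun i => ?_, ?_, fun z hz => ?_⟩
  · rw [← MonObj.comp_pow, h1 i, MonObj.comp_one]
  · have h5 : Nat.card (Subgroup.closure {toUnit (Over.mk t) ≫ σ 0, toUnit (Over.mk t) ≫ σ 1}) =
        Nat.card (AgPol.torsSet J n (Over.mk t)) := by
      rw [← h3]
      rfl
    rw [h5, h4]
  · have : z ∈ (AgPol.torsSet J n (Over.mk t)) := hz
    rw [← h3] at this
    exact this

end Lvl

variable {S : Scheme.{u}} [IsIntegral S]

/-- An algebraic closure of the function field. -/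
abbrev Ωb (S : Scheme.{u}) [IsIntegral S] : Type u := AlgebraicClosure S.functionField

/-- The geometric generic point as a morphism to the spectrum of the function field. -/
noncomputable def ρ0 (S : Scheme.{u}) [IsIntegral S] :
    Spec (CommRingCat.of (Ωb S)) ⟶ Spec (CommRingCat.of (KS S)) :=
  Spec.map (CommRingCat.ofHom (algebraMap S.functionField (Ωb S)))

instance : Epi (ρ0 S) := by
  have h1 : Flat (ρ0 S) := by
    rw [ρ0, Flat.SpecMap_iff]
    exact RingHom.flat_algebraMap_iff.mpr inferInstance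
  have h2 : Surjective (ρ0 S) := by
    constructor
    intro x
    obtain ⟨y⟩ : Nonempty (Spec (CommRingCat.of (Ωb S))) := inferInstanceAs (Nonempty (PrimeSpectrum (Ωb S)))
    refine ⟨y, ?_⟩
    have : Subsingleton (Spec (CommRingCat.of (KS S))) :=
      inferInstanceAs (Subsingleton (PrimeSpectrum S.functionField))
    exact Subsingleton.elim _ _
  have h3 : QuasiCompact (ρ0 S) := inferInstance
  infer_instance

variable {J J' : Over S} [GrpObj J] [GrpObj J'] [IsCommMonObj J] [IsCommMonObj J'] {n : ℕ}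
  {σ : Fin (2 * 1) → (𝟙_ (Over S) ⟶ J)} {σ' : Fin (2 * 1) → (𝟙_ (Over S) ⟶ J')}

theorem exists_transport (hn : 3 ≤ n) (hσ : AgPol.IsLevelStr J 1 n σ) (hσ' : AgPol.IsLevelStr J' 1 n σ')
    (φ : Red.bc (jη S) J ⟶ Red.bc (jη S) J') (φ' : Red.bc (jη S) J' ⟶ Red.bc (jη S) J) [IsMonHom φ]
    (h1 : φ ≫ φ' = 𝟙 _) : ∃ τ : Fin (2 * 1) → (𝟙_ (Over S) ⟶ J'),
      (∀ i, ev φ (toUnit (Over.mk (jη S)) ≫ σ i) (𝟙 _) = toUnit (Over.mk (jη S)) ≫ τ i) ∧
      K820.LevelGrp.Good J' (τ 0) (τ 1) := by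
  have hn0 : 0 < n := by omega
  let t : Spec (CommRingCat.of (Ωb S)) ⟶ S := ρ0 S ≫ jη S
  let T : Over S := Over.mk (jη S)
  let TΩ : Over S := Over.mk t
  let ρ : TΩ ⟶ T := Over.homMk (ρ0 S) rfl
  let x : Fin (2 * 1) → (TΩ ⟶ J) := fun i => toUnit TΩ ≫ σ i
  obtain ⟨hx, hxcard, -⟩ := level_at hσ t
  obtain ⟨hs, hscard, hscl⟩ := level_at hσ' t
  let F : (TΩ ⟶ J) →* (TΩ ⟶ J') := MonoidHom.mk' (fun x => ev φ x ρ) (fun x y => ev_mul φ x y ρ)
  have hF : Function.Injective F := by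
    intro a b hab
    have h2 : ev φ' (ev φ a ρ) ρ = ev φ' (ev φ b ρ) ρ := congrArg (fun z => ev φ' z ρ) hab
    rw [ev_comp, ev_comp, h1, ev_id, ev_id] at h2
    exact h2
  let z : Fin (2 * 1) → (TΩ ⟶ J') := fun i => F (x i)
  have hz : ∀ i, z i = ρ ≫ ev φ (toUnit T ≫ σ i) (𝟙 _) := by
    intro i
    rw [comp_ev, ← Category.assoc, Category.comp_id, toUnit_unique (ρ ≫ toUnit T) (toUnit TΩ)]
    rfl
  have hzn : ∀ i, z i ^ n = 1 := by
    intro i
    change F (x i) ^ n = 1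
    rw [← map_pow, hx i, map_one]
  have hw : ∀ i, ∃ a b : Fin n, (toUnit TΩ ≫ σ' 0) ^ (a : ℕ) * (toUnit TΩ ≫ σ' 1) ^ (b : ℕ) = z i := fun i =>
    K262.PairGrp.exists_word hn0 (hs 0) (hs 1) (hscl _ (hzn i))
  choose a b hab using hw
  let τ : Fin (2 * 1) → (𝟙_ (Over S) ⟶ J') := fun i => σ' 0 ^ (a i : ℕ) * σ' 1 ^ (b i : ℕ)
  have hτ : ∀ (V : Over S) (i), (toUnit V ≫ σ' 0) ^ (a i : ℕ) * (toUnit V ≫ σ' 1) ^ (b i : ℕ) = toUnit V ≫ τ i := by
    intro V i
    rw [MonObj.comp_mul, MonObj.comp_pow, MonObj.comp_pow]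
  have key : ∀ i, ev φ (toUnit T ≫ σ i) (𝟙 _) = toUnit T ≫ τ i := by
    intro i
    have h2 : ρ ≫ ev φ (toUnit T ≫ σ i) (𝟙 _) = ρ ≫ toUnit T ≫ τ i := by
      rw [← hz, ← Category.assoc, toUnit_unique (ρ ≫ toUnit T) (toUnit TΩ), ← hτ, hab]
    apply Over.OverMorphism.ext
    have h3 : ρ0 S ≫ (ev φ (toUnit T ≫ σ i) (𝟙 _)).left = ρ0 S ≫ (toUnit T ≫ τ i).left :=
      congrArg (fun f : TΩ ⟶ J' => f.left) h2
    exact (cancel_epi (ρ0 S)).mp h3
  refine ⟨τ, key, ?_⟩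
  intro Ω' _ _ t' p r hp hr
  let E := Sga3B.RadOpen.ptMulEquiv t' J'
  have hE : ∀ (i : Fin (2 * 1)) (y : 𝟙_ (Over (Spec (CommRingCat.of Ω'))) ⟶ Red.bc t' J'),
      y.left ≫ pullback.fst J'.hom t' = t' ≫ (τ i).left → E y = toUnit (Over.mk t') ≫ τ i := by
    intro i y hy
    apply Over.OverMorphism.ext
    have h1 : (E y).left = y.left ≫ pullback.fst J'.hom t' := Sga3B.RadOpen.ptEquiv_left t' y
    rw [h1, hy]
    rfl
  obtain ⟨hs', hscard', -⟩ := level_at hσ' t'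
  have key3 : ∀ c d : ℕ, p ^ c * r ^ d = 1 → x 0 ^ c * x 1 ^ d = 1 := by
    intro c d hcd
    have e1 : (toUnit (Over.mk t') ≫ τ 0) ^ c * (toUnit (Over.mk t') ≫ τ 1) ^ d = 1 := by
      rw [← hE 0 p hp, ← hE 1 r hr, ← map_pow, ← map_pow, ← map_mul, hcd, map_one]
    rw [K262.PairGrp.word_pow (hτ (Over.mk t') 0) (hτ (Over.mk t') 1)] at e1
    obtain ⟨h2, h3⟩ := K262.PairGrp.dvd_of_word hn0 (hs' 0) (hs' 1) hscard' e1
    apply hF
    rw [map_one, map_mul, map_pow, map_pow]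
    change z 0 ^ c * z 1 ^ d = 1
    rw [K262.PairGrp.word_pow (hab 0) (hab 1)]
    obtain ⟨k, hk⟩ := h2
    obtain ⟨l, hl⟩ := h3
    rw [hk, hl, pow_mul, pow_mul, hs 0, hs 1, one_pow, one_pow, one_mul]
  obtain ⟨g1, g2, g3, g4, g5⟩ := K820.LevelGrp.grp hn (hx 0) (hx 1) hxcard
  have hpn : p ^ n = 1 := by
    apply E.injective
    rw [map_pow, map_one, hE 0 p hp, ← hτ, mul_pow, ← pow_mul, ← pow_mul, mul_comm _ n, mul_comm _ n, pow_mul,
      pow_mul, hs' 0, hs' 1, one_pow, one_pow, one_mul]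
  refine ⟨fun h => g1 ?_, fun h => g2 ?_, fun h => g3 ?_, fun h => g4 ?_, fun h => g5 ?_⟩
  · have := key3 1 0 (by rw [h, one_pow, pow_zero, one_mul])
    simpa using this
  · have := key3 0 1 (by rw [h, pow_zero, pow_one, one_mul])
    simpa using this
  · have := key3 2 0 (by rw [pow_two, h, pow_zero, one_mul])
    simpa [pow_two] using this
  · have h2 := key3 (n - 1) 1 (by
      rw [h, pow_one, ← pow_succ, Nat.sub_add_cancel (by omega), hpn])
    have h3 : x 0 * (x 0 ^ (n - 1) * x 1 ^ 1) = x 0 * 1 := by rw [h2]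
    rw [pow_one, ← mul_assoc, ← pow_succ', Nat.sub_add_cancel (by omega), mul_one (x 0)] at h3
    have h4 : x 0 ^ n = 1 := hx 0
    rw [h4, one_mul] at h3
    exact h3
  · have h2 := key3 1 1 (by
      apply E.injective
      have h3 := congrArg E h
      rw [map_mul] at h3 ⊢
      rw [pow_one, pow_one, mul_comm]
      exact h3)
    rw [pow_one, pow_one, mul_comm] at h2
    exact h2

end K262.NormTrans
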