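import Groth.Prelude.Def_AgPol
import Groth.Prelude.Def_ActBC
import Groth.Agent.S7794
import Groth.Agent.AbSch.K448.PointedHom
import Groth.Agent.Flat2B.SmoothGeom

/-!
# Pointed morphisms of abelian schemes over a morphism of base schemes

A morphism `u : A.left ⟶ B.left` over `φ : S' ⟶ S` between abelian schemes `A / S'`, `B / S` which preserves the unit
sections is a "homomorphism over `φ`".  Main results: `K262.EllPtd.isMonHom_toBc` (the induced morphism to the base
change is a homomorphism) and `K262.EllPtd.ext_of_fibre` (two such morphisms with connected `S'` which agree on one fibre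
are equal).
-/

set_option autoImplicit false

universe u

open CategoryTheory CategoryTheory.Limits MonoidalCategory CartesianMonoidalCategory MonObj GrpObj
  AlgebraicGeometry

namespace K262.EllPtd

variable {S S' : Scheme.{u}}

/-- The unit section of a group scheme, as a morphism of schemes `S ⟶ A`. -/
noncomputable def zer (A : Over S) [GrpObj A] : S ⟶ A.left := (η[A] : 𝟙_ (Over S) ⟶ A).left

@[reassoc (attr := simp)]
theorem zer_hom (A : Over S) [GrpObj A] : zer A ≫ A.hom = 𝟙 S := Over.w (η[A] : 𝟙_ (Over S) ⟶ A)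

/-- The unit section of a base change. -/
@[reassoc (attr := simp)]
theorem zer_bc_fst (φ : S' ⟶ S) (B : Over S) [GrpObj B] :
    zer (Red.bc φ B) ≫ pullback.fst B.hom φ = φ ≫ zer B := by
  have h1 : (η[Red.bc φ B] : 𝟙_ _ ⟶ Red.bc φ B) =
      Functor.LaxMonoidal.ε (Over.pullback φ) ≫ (Over.pullback φ).map η[B] := rfl
  unfold zer
  rw [h1, Over.comp_left, Category.assoc]
  have h2 : ((Over.pullback φ).map η[B]).left ≫ pullback.fst B.hom φ =
      pullback.fst (𝟙_ (Over S)).hom φ ≫ (η[B] : 𝟙_ (Over S) ⟶ B).left :=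
    pullback.lift_fst _ _ _
  rw [h2, ← Category.assoc]
  congr 1
  have h3 : (Functor.LaxMonoidal.ε (Over.pullback φ)).left ≫ pullback.snd (𝟙_ (Over S)).hom φ = 𝟙 S' :=
    Over.w (Functor.LaxMonoidal.ε (Over.pullback φ))
  have h4' : pullback.fst (𝟙_ (Over S)).hom φ ≫ 𝟙 S = pullback.snd (𝟙_ (Over S)).hom φ ≫ φ :=
    pullback.condition
  have h4 : pullback.fst (𝟙_ (Over S)).hom φ = pullback.snd (𝟙_ (Over S)).hom φ ≫ φ :=
    (Category.comp_id (pullback.fst (𝟙_ (Over S)).hom φ)).symm.trans h4'
  rw [h4, ← Category.assoc, h3]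
  exact Category.id_comp φ

@[reassoc (attr := simp)]
theorem zer_bc_snd (φ : S' ⟶ S) (B : Over S) [GrpObj B] :
    zer (Red.bc φ B) ≫ pullback.snd B.hom φ = 𝟙 S' := zer_hom (Red.bc φ B)

/-- The morphism to the base change induced by a morphism over `φ`. -/
noncomputable def toBc {A : Over S'} {B : Over S} (φ : S' ⟶ S) (u : A.left ⟶ B.left)
    (w : u ≫ B.hom = A.hom ≫ φ) : A ⟶ Red.bc φ B :=
  Over.homMk (pullback.lift u A.hom w) (pullback.lift_snd _ _ _)

@[reassoc (attr := simp)]
theorem toBc_left_fst {A : Over S'} {B : Over S} (φ : S' ⟶ S) (u : A.left ⟶ B.left)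
    (w : u ≫ B.hom = A.hom ≫ φ) : (toBc φ u w).left ≫ pullback.fst B.hom φ = u :=
  pullback.lift_fst _ _ _

@[reassoc (attr := simp)]
theorem toBc_left_snd {A : Over S'} {B : Over S} (φ : S' ⟶ S) (u : A.left ⟶ B.left)
    (w : u ≫ B.hom = A.hom ≫ φ) : (toBc φ u w).left ≫ pullback.snd B.hom φ = A.hom :=
  pullback.lift_snd _ _ _

theorem toBc_injective {A : Over S'} {B : Over S} (φ : S' ⟶ S) {u v : A.left ⟶ B.left}
    (w : u ≫ B.hom = A.hom ≫ φ) (w' : v ≫ B.hom = A.hom ≫ φ) (h : toBc φ u w = toBc φ v w') : u = v := by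
  rw [← toBc_left_fst φ u w, ← toBc_left_fst φ v w', h]

/-- The properties of an abelian scheme used throughout. -/
class AbS (A : Over S) : Prop where
  proper : IsProper A.hom
  flat : Flat A.hom
  lfp : LocallyOfFinitePresentation A.hom
  red : GeometricallyReduced A.hom
  conn : GeometricallyConnected A.hom

attribute [instance] AbS.proper AbS.flat AbS.lfp AbS.red AbS.conn

theorem AbS.of_isAbSch {A : Over S} {g : ℕ} (h : AgPol.IsAbSch A g) : AbS A := by
  have := h.smooth
  have := h.proper
  have := h.geomConnected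
  have := Groth.Agent.Flat2B.SmoothGeom.geometricallyReduced_of_smooth A.hom
  exact ⟨inferInstance, inferInstance, inferInstance, inferInstance, inferInstance⟩

instance AbS.bc (φ : S' ⟶ S) (B : Over S) [AbS B] : AbS (Red.bc φ B) where
  proper := inferInstanceAs (IsProper (pullback.snd B.hom φ))
  flat := inferInstanceAs (Flat (pullback.snd B.hom φ))
  lfp := inferInstanceAs (LocallyOfFinitePresentation (pullback.snd B.hom φ))
  red := inferInstanceAs (GeometricallyReduced (pullback.snd B.hom φ))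
  conn := inferInstanceAs (GeometricallyConnected (pullback.snd B.hom φ))

/-- A morphism over `φ` preserving the unit sections induces a homomorphism to the base change. -/
theorem isMonHom_toBc {A : Over S'} {B : Over S} [GrpObj A] [GrpObj B] [AbS A] [AbS B] (φ : S' ⟶ S)
    (u : A.left ⟶ B.left) (w : u ≫ B.hom = A.hom ≫ φ) (h0 : zer A ≫ u = φ ≫ zer B) :
    IsMonHom (toBc φ u w) := by
  refine K448.PointedHom.isMonHom_of_pointed (toBc φ u w) ?_
  ext1
  refine pullback.hom_ext ?_ ?_
  · change (zer A ≫ (toBc φ u w).left) ≫ pullback.fst B.hom φ = zer (Red.bc φ B) ≫ pullback.fst B.hom φ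
    rw [Category.assoc, toBc_left_fst, zer_bc_fst, h0]
  · change (zer A ≫ (toBc φ u w).left) ≫ pullback.snd B.hom φ = zer (Red.bc φ B) ≫ pullback.snd B.hom φ
    rw [Category.assoc, toBc_left_snd, zer_bc_snd, zer_hom]

/-- Two homomorphisms of abelian schemes over a connected base which agree on one fibre are equal. -/
theorem hom_ext_of_fibre {A B : Over S} [ConnectedSpace S] [GrpObj A] [GrpObj B] [AbS A] [AbS B] (f g : A ⟶ B)
    [IsMonHom f] [IsMonHom g] (s : S)
    (hs : A.hom.fiberι s ≫ f.left = A.hom.fiberι s ≫ g.left) : f = g := by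
  obtain ⟨W, hW, hsW, hfg⟩ := Groth.Agent.S7794.result A B f g s hs
  have h1 : W = ⊤ := by
    have h2 : IsClopen (W : Set S) := ⟨hW, W.isOpen⟩
    exact TopologicalSpace.Opens.ext (h2.eq_univ ⟨s, hsW⟩)
  ext1
  subst h1
  have h3 : IsIso (A.hom ⁻¹ᵁ (⊤ : S.Opens)).ι := ⟨_, A.left.topIso.hom_inv_id, A.left.topIso.inv_hom_id⟩
  exact (cancel_epi (A.hom ⁻¹ᵁ (⊤ : S.Opens)).ι).mp hfg

/-- Two pointed morphisms over `φ` of abelian schemes with connected source base which agree on one fibre are
equal. -/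
theorem ext_of_fibre {A : Over S'} {B : Over S} [ConnectedSpace S'] [GrpObj A] [GrpObj B] [AbS A] [AbS B] (φ : S' ⟶ S)
    (u v : A.left ⟶ B.left) (wu : u ≫ B.hom = A.hom ≫ φ) (wv : v ≫ B.hom = A.hom ≫ φ)
    (hu : zer A ≫ u = φ ≫ zer B) (hv : zer A ≫ v = φ ≫ zer B) (s : S')
    (hs : A.hom.fiberι s ≫ u = A.hom.fiberι s ≫ v) : u = v := by
  have := isMonHom_toBc φ u wu hu
  have := isMonHom_toBc φ v wv hv
  refine toBc_injective φ wu wv (hom_ext_of_fibre _ _ s ?_)
  refine pullback.hom_ext ?_ ?_
  · simpa only [Category.assoc, toBc_left_fst] using hs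
  · simp only [Category.assoc, toBc_left_snd]

theorem isIso_residueFieldMap_of_surjectiveOnStalks {X Y : Scheme.{u}} (f : X ⟶ Y) [SurjectiveOnStalks f] (x : X) :
    IsIso (f.residueFieldMap x) := by
  have h := Scheme.residue_residueFieldMap f x
  have h2 : Function.Surjective (f.stalkMap x ≫ X.residue x) :=
    (X.residue_surjective x).comp (Scheme.Hom.stalkMap_surjective f x)
  rw [← h] at h2
  exact (ConcreteCategory.isIso_iff_bijective _).mpr
    ⟨(f.residueFieldMap x).hom.injective, Function.Surjective.of_comp (g := Y.residue (f x)) h2⟩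

/-- If the residue field point of `s` factors through `a : T ⟶ S'`, equality over `s` follows from equality after base
change along `a`. -/
theorem ext_of_section {A : Over S'} {B : Over S} [ConnectedSpace S'] [GrpObj A] [GrpObj B] [AbS A] [AbS B] (φ : S' ⟶ S)
    (u v : A.left ⟶ B.left) (wu : u ≫ B.hom = A.hom ≫ φ) (wv : v ≫ B.hom = A.hom ≫ φ)
    (hu : zer A ≫ u = φ ≫ zer B) (hv : zer A ≫ v = φ ≫ zer B) {T : Scheme.{u}} (a : T ⟶ S') [IsClosedImmersion a]
    (t : T) {AT : Scheme.{u}} (p : AT ⟶ A.left) (q : AT ⟶ T) (sq : IsPullback p q A.hom a)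
    (h : p ≫ u = p ≫ v) : u = v := by
  refine ext_of_fibre φ u v wu wv hu hv (a t) ?_
  have h1 : IsIso (a.residueFieldMap t) := isIso_residueFieldMap_of_surjectiveOnStalks a t
  have h2 : S'.fromSpecResidueField (a t) =
      inv (Spec.map (a.residueFieldMap t)) ≫ T.fromSpecResidueField t ≫ a := by
    rw [IsIso.eq_inv_comp]
    exact Scheme.Hom.SpecMap_residueFieldMap_fromSpecResidueField a t
  let c : A.hom.fiber (a t) ⟶ T := pullback.snd A.hom (S'.fromSpecResidueField (a t)) ≫
    inv (Spec.map (a.residueFieldMap t)) ≫ T.fromSpecResidueField t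
  have hc : A.hom.fiberι (a t) ≫ A.hom = c ≫ a := by
    have h4 : A.hom.fiberι (a t) ≫ A.hom =
        pullback.snd A.hom (S'.fromSpecResidueField (a t)) ≫ S'.fromSpecResidueField (a t) := pullback.condition
    refine (h4.trans (congrArg (fun m => pullback.snd A.hom (S'.fromSpecResidueField (a t)) ≫ m) h2)).trans ?_
    change _ = (pullback.snd A.hom (S'.fromSpecResidueField (a t)) ≫
      inv (Spec.map (a.residueFieldMap t)) ≫ T.fromSpecResidueField t) ≫ a
    simp only [Category.assoc]
  have h3 : A.hom.fiberι (a t) = sq.lift (A.hom.fiberι (a t)) c hc ≫ p := (sq.lift_fst _ _ _).symm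
  rw [h3, Category.assoc, Category.assoc, h]

end K262.EllPtd
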