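import Groth.Agent.EllLift.K262.Geom

/-!
# Pointed and cartesian morphisms of abelian schemes over a morphism of bases; constancy

`PT f A E v`: `v : A ⟶ E` is a morphism over `f` preserving the unit sections.
`CP f A E q`: moreover the square is cartesian.
`CP.const`: if `T` is connected, `f : T ⟶ B` has a section `a` and `q : A ⟶ E` is cartesian over `f`, then every
pointed morphism `v : A ⟶ E'` over `f ≫ g` is `q` followed by its restriction along the section.
-/

set_option autoImplicit false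

universe u

open CategoryTheory CategoryTheory.Limits MonoidalCategory CartesianMonoidalCategory MonObj GrpObj
  AlgebraicGeometry

namespace K262.EllSplit

open K262.EllPtd

/-- Pointed morphisms over `f`. -/
structure PT {T B : Scheme.{u}} (f : T ⟶ B) (A : Over T) (E : Over B) [GrpObj A] [GrpObj E]
    (v : A.left ⟶ E.left) : Prop where
  w : v ≫ E.hom = A.hom ≫ f
  zero : zer A ≫ v = f ≫ zer E

/-- Cartesian pointed morphisms over `f`. -/
structure CP {T B : Scheme.{u}} (f : T ⟶ B) (A : Over T) (E : Over B) [GrpObj A] [GrpObj E]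
    (q : A.left ⟶ E.left) : Prop extends PT f A E q where
  isPullback : IsPullback q A.hom E.hom f

section

variable {T B B' : Scheme.{u}} {f : T ⟶ B} {g : B ⟶ B'} {A : Over T} {E : Over B} {E' : Over B'}
  [GrpObj A] [GrpObj E] [GrpObj E']

theorem PT.comp {u : A.left ⟶ E.left} {v : E.left ⟶ E'.left} (hu : PT f A E u) (hv : PT g E E' v) :
    PT (f ≫ g) A E' (u ≫ v) where
  w := by rw [Category.assoc, hv.w, ← Category.assoc, hu.w, Category.assoc]
  zero := by rw [← Category.assoc, hu.zero, Category.assoc, hv.zero, Category.assoc]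

theorem CP.comp {u : A.left ⟶ E.left} {v : E.left ⟶ E'.left} (hu : CP f A E u) (hv : CP g E E' v) :
    CP (f ≫ g) A E' (u ≫ v) where
  toPT := hu.toPT.comp hv.toPT
  isPullback := hu.isPullback.paste_horiz hv.isPullback

/-- The identity is pointed. -/
theorem PT.id (A : Over T) [GrpObj A] : PT (𝟙 T) A A (𝟙 A.left) where
  w := by simp
  zero := by simp

theorem CP.id (A : Over T) [GrpObj A] : CP (𝟙 T) A A (𝟙 A.left) where
  toPT := PT.id A
  isPullback := IsPullback.of_horiz_isIso ⟨by simp⟩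

/-- Change of the base morphism along an equality. -/
theorem PT.congr {f' : T ⟶ B} {u : A.left ⟶ E.left} (hu : PT f A E u) (h : f = f') : PT f' A E u := h ▸ hu

theorem CP.congr {f' : T ⟶ B} {u : A.left ⟶ E.left} (hu : CP f A E u) (h : f = f') : CP f' A E u := h ▸ hu

/-- Factorization through a cartesian morphism. -/
noncomputable def CP.lift {v : E.left ⟶ E'.left} (hv : CP g E E' v) (f : T ⟶ B) {u : A.left ⟶ E'.left}
    (hu : PT (f ≫ g) A E' u) : A.left ⟶ E.left :=
  hv.isPullback.lift u (A.hom ≫ f) (by rw [hu.w, Category.assoc])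

@[reassoc (attr := simp)]
theorem CP.lift_comp {v : E.left ⟶ E'.left} (hv : CP g E E' v) (f : T ⟶ B) {u : A.left ⟶ E'.left}
    (hu : PT (f ≫ g) A E' u) : hv.lift f hu ≫ v = u := hv.isPullback.lift_fst _ _ _

@[reassoc (attr := simp)]
theorem CP.lift_hom {v : E.left ⟶ E'.left} (hv : CP g E E' v) (f : T ⟶ B) {u : A.left ⟶ E'.left}
    (hu : PT (f ≫ g) A E' u) : hv.lift f hu ≫ E.hom = A.hom ≫ f := hv.isPullback.lift_snd _ _ _

theorem CP.pt_lift {v : E.left ⟶ E'.left} (hv : CP g E E' v) (f : T ⟶ B) {u : A.left ⟶ E'.left}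
    (hu : PT (f ≫ g) A E' u) : PT f A E (hv.lift f hu) where
  w := hv.lift_hom f hu
  zero := by
    refine hv.isPullback.hom_ext ?_ ?_
    · rw [Category.assoc, lift_comp, hu.zero, Category.assoc, Category.assoc, hv.zero]
    · rw [Category.assoc, lift_hom, zer_hom_assoc, Category.assoc, zer_hom, Category.comp_id]

theorem CP.cp_lift {v : E.left ⟶ E'.left} (hv : CP g E E' v) (f : T ⟶ B) {u : A.left ⟶ E'.left}
    (hu : CP (f ≫ g) A E' u) : CP f A E (hv.lift f hu.toPT) where
  toPT := hv.pt_lift f hu.toPT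
  isPullback := by
    refine IsPullback.of_right (h₁₂ := v) (v₁₃ := E'.hom) (h₂₂ := g) ?_ (hv.lift_hom f hu.toPT) hv.isPullback
    rw [lift_comp]
    exact hu.isPullback

/-- A cartesian pointed morphism over the identity is an isomorphism. -/
theorem CP.isIso {T : Scheme.{u}} {A E : Over T} [GrpObj A] [GrpObj E] {q : A.left ⟶ E.left}
    (h : CP (𝟙 T) A E q) : IsIso q := h.isPullback.isIso_fst_of_isIso

/-- The projection from a base change. -/
theorem cp_bc (φ : T ⟶ B) (E : Over B) [GrpObj E] : CP φ (Red.bc φ E) E (pullback.fst E.hom φ) where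
  w := pullback.condition
  zero := zer_bc_fst φ E
  isPullback := IsPullback.of_hasPullback _ _

end

/-- The morphism of `Over B` underlying a pointed morphism over the identity. -/
noncomputable def PT.hom {B : Scheme.{u}} {E E' : Over B} [GrpObj E] [GrpObj E'] {v : E.left ⟶ E'.left}
    (h : PT (𝟙 B) E E' v) : E ⟶ E' :=
  Over.homMk v (by rw [h.w, Category.comp_id])

@[simp]
theorem PT.hom_left {B : Scheme.{u}} {E E' : Over B} [GrpObj E] [GrpObj E'] {v : E.left ⟶ E'.left}
    (h : PT (𝟙 B) E E' v) : h.hom.left = v := rfl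

theorem PT.isMonHom {B : Scheme.{u}} {E E' : Over B} [GrpObj E] [GrpObj E'] [AbS E] [AbS E']
    {v : E.left ⟶ E'.left} (h : PT (𝟙 B) E E' v) : IsMonHom h.hom := by
  refine K448.PointedHom.isMonHom_of_pointed h.hom ?_
  ext1
  exact h.zero.trans (Category.id_comp _)

/-- The underlying morphism of a homomorphism of group schemes is pointed. -/
theorem PT.of_isMonHom {B : Scheme.{u}} {E E' : Over B} [GrpObj E] [GrpObj E'] (φ : E ⟶ E') [IsMonHom φ] :
    PT (𝟙 B) E E' φ.left where
  w := by rw [Over.w, Category.comp_id]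
  zero := by
    rw [Category.id_comp]
    exact congrArg CommaMorphism.left (IsMonHom.one_hom (f := φ))

theorem CP.of_iso {B : Scheme.{u}} {E E' : Over B} [GrpObj E] [GrpObj E'] (φ : Grp.mk E ≅ Grp.mk E') :
    CP (𝟙 B) E E' φ.hom.hom.hom.left where
  toPT := PT.of_isMonHom φ.hom.hom.hom
  isPullback := by
    have h1 : IsIso φ.hom.hom.hom.left := by
      refine ⟨φ.inv.hom.hom.left, ?_, ?_⟩
      · exact congrArg (fun m : Grp.mk E ⟶ Grp.mk E => m.hom.hom.left) φ.hom_inv_id
      · exact congrArg (fun m : Grp.mk E' ⟶ Grp.mk E' => m.hom.hom.left) φ.inv_hom_id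
    exact IsPullback.of_horiz_isIso ⟨(PT.of_isMonHom φ.hom.hom.hom).w⟩

section Sec

variable {T B B' : Scheme.{u}} {f : T ⟶ B} {A : Over T} {E : Over B} [GrpObj A] [GrpObj E] {q : A.left ⟶ E.left}
  (h : CP f A E q) (a : B ⟶ T) (ha : a ≫ f = 𝟙 B)

/-- The section of a cartesian pointed morphism induced by a section of the base morphism. -/
noncomputable def CP.sec : E.left ⟶ A.left := h.lift a ((PT.id E).congr ha.symm)

@[reassoc (attr := simp)]
theorem CP.sec_comp : h.sec a ha ≫ q = 𝟙 _ := h.lift_comp _ _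

@[reassoc (attr := simp)]
theorem CP.sec_hom : h.sec a ha ≫ A.hom = E.hom ≫ a := h.lift_hom _ _

theorem CP.cp_sec : CP a E A (h.sec a ha) := h.cp_lift a ((CP.id E).congr ha.symm)

/-- Constancy of pointed morphisms. -/
theorem CP.const [ConnectedSpace T] [AbS A] [IsClosedImmersion a] [Nonempty B] {g : B ⟶ B'} {E' : Over B'}
    [GrpObj E'] [AbS E'] {v : A.left ⟶ E'.left} (hv : PT (f ≫ g) A E' v) : v = q ≫ h.sec a ha ≫ v := by
  obtain ⟨b⟩ := ‹Nonempty B›
  have h1 : PT (f ≫ a ≫ f ≫ g) A E' (q ≫ h.sec a ha ≫ v) := h.toPT.comp ((h.cp_sec a ha).toPT.comp hv)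
  have h2 : f ≫ a ≫ f ≫ g = f ≫ g := by
    rw [← Category.assoc a, ha, Category.id_comp]
  have h3 := h1.congr h2
  refine ext_of_section (f ≫ g) v (q ≫ h.sec a ha ≫ v) hv.w h3.w hv.zero h3.zero a b (h.sec a ha) E.hom
    (h.cp_sec a ha).isPullback ?_
  rw [h.sec_comp_assoc]

/-- The restriction to the section of a pointed morphism. -/
theorem CP.pt_sec_comp {g : B ⟶ B'} {E' : Over B'} [GrpObj E'] {v : A.left ⟶ E'.left} (hv : PT (f ≫ g) A E' v) :
    PT g E E' (h.sec a ha ≫ v) :=
  ((h.cp_sec a ha).toPT.comp hv).congr (by rw [← Category.assoc, ha, Category.id_comp])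

theorem CP.cp_sec_comp {g : B ⟶ B'} {E' : Over B'} [GrpObj E'] {v : A.left ⟶ E'.left} (hv : CP (f ≫ g) A E' v) :
    CP g E E' (h.sec a ha ≫ v) :=
  ((h.cp_sec a ha).comp hv).congr (by rw [← Category.assoc, ha, Category.id_comp])

include h in
/-- `q` can be cancelled. -/
theorem CP.cancel {Z : Scheme.{u}} (u v : E.left ⟶ Z) (ha : ∃ a : B ⟶ T, a ≫ f = 𝟙 B) (huv : q ≫ u = q ≫ v) : u = v := by
  obtain ⟨a, ha⟩ := ha
  rw [← Category.id_comp u, ← h.sec_comp a ha, Category.assoc, huv, ← Category.assoc, h.sec_comp, Category.id_comp]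

end Sec

end K262.EllSplit
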